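import Cfsg.Agent.Lib.Lead.PSLSpectrum.Facts

/-!
# The spectrum of `PSL₂(q)`, `q` odd: the centralizer of an involution is dihedral
-/

set_option autoImplicit false
set_option linter.unusedSectionVars false
set_option linter.style.haveILetI false

namespace Cfsg.Agent.Lead.PSLSpectrum

open Cfsg Cfsg.Agent.Char
open scoped Classical

variable {G : Type*} [Group G] [Fintype G] {p f q k e : ℕ}

theorem conj_sq_one {x : G} (hx : orderOf x = 2) : x * x = 1 := by
  rw [← sq, ← hx, pow_orderOf_eq_one]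

theorem orderOf_conj' (g x : G) : orderOf (g * x * g⁻¹) = orderOf x :=
  (MulAut.conj g).orderOf_eq x

/-- The cyclic subgroup `B` of index two in the centralizer of the involution `t`. -/
structure Cyc (G : Type*) [Group G] (e : ℕ) (t : G) (B : Subgroup G) : Prop where
  t2 : orderOf t = 2
  card : Nat.card B = e
  tB : t ∈ B
  comm : ∀ a ∈ B, ∀ b ∈ B, a * b = b * a
  uniq : ∀ a ∈ B, orderOf a = 2 → a = t
  le : B ≤ Subgroup.centralizer ({t} : Set G)
  index : (B.subgroupOf (Subgroup.centralizer ({t} : Set G))).index = 2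

namespace Cyc

variable {t : G} {B : Subgroup G} (C : Cyc G e t B)
include C

theorem sq_mem {w : G} (hw : w ∈ Subgroup.centralizer ({t} : Set G)) : w ^ 2 ∈ B :=
  Subgroup.mem_subgroupOf.1 (Subgroup.sq_mem_of_index_two C.index ⟨w, hw⟩)

theorem odd_mem {w : G} (hw : w ∈ Subgroup.centralizer ({t} : Set G)) (h : Odd (orderOf w)) : w ∈ B := by
  obtain ⟨j, hj⟩ := h
  have : w = (w ^ 2) ^ (j + 1) := by
    rw [← pow_mul, show 2 * (j + 1) = orderOf w + 1 by omega, pow_succ, pow_orderOf_eq_one, one_mul]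
  rw [this]
  exact B.pow_mem (C.sq_mem hw) _

theorem conj_mem {c b : G} (hc : c ∈ Subgroup.centralizer ({t} : Set G)) (hb : b ∈ B) :
    c * b * c⁻¹ ∈ B := by
  have h : (B.subgroupOf (Subgroup.centralizer ({t} : Set G))).Normal :=
    Subgroup.normal_of_index_eq_two C.index
  exact Subgroup.mem_subgroupOf.1
    (h.conj_mem ⟨b, C.le hb⟩ (Subgroup.mem_subgroupOf.2 hb) ⟨c, hc⟩)

theorem mem_or {s w : G} (hs : s ∈ Subgroup.centralizer ({t} : Set G)) (hsB : s ∉ B)
    (hw : w ∈ Subgroup.centralizer ({t} : Set G)) : w ∈ B ∨ s⁻¹ * w ∈ B := by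
  by_cases hwB : w ∈ B
  · exact Or.inl hwB
  refine Or.inr ?_
  have := (Subgroup.mul_mem_iff_of_index_two C.index (a := ⟨s, hs⟩⁻¹) (b := ⟨w, hw⟩)).2
    ⟨fun h => absurd (by simpa [Subgroup.mem_subgroupOf] using h) hsB,
      fun h => absurd (Subgroup.mem_subgroupOf.1 h) hwB⟩
  exact Subgroup.mem_subgroupOf.1 this

/-- An even order element of `B` generates a subgroup containing `t`. -/
theorem t_mem_zpowers {b : G} (hb : b ∈ B) (h : 2 ∣ orderOf b) : t ∈ Subgroup.zpowers b := by
  have : orderOf (b ^ (orderOf b / 2)) = 2 :=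
    orderOf_pow_orderOf_div (orderOf_pos b).ne' h
  rw [← C.uniq _ (B.pow_mem hb _) this]
  exact Subgroup.pow_mem _ (Subgroup.mem_zpowers b) _

variable (S : Spec G p f q k e)
include S

theorem cent_le {b : G} (hb : b ∈ B) (hb1 : b ≠ 1) :
    Subgroup.centralizer ({b} : Set G) = B ∨
      Subgroup.centralizer ({b} : Set G) = Subgroup.centralizer ({t} : Set G) := by
  have hle : B ≤ Subgroup.centralizer ({b} : Set G) := fun a ha =>
    Subgroup.mem_centralizer_singleton_iff.2 (C.comm a ha b hb)
  have hdvd := S.card_centralizer_e hb1 (C.card ▸ Subgroup.orderOf_dvd_natCard B hb)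
  obtain ⟨i, hi⟩ := hdvd
  have hBd := Subgroup.card_dvd_of_le hle
  obtain ⟨j, hj⟩ := hBd
  rw [C.card] at hj
  have he := S.e2
  have hij : j * i = 2 := by
    rw [hj, mul_assoc] at hi
    exact Nat.eq_of_mul_eq_mul_left (show 0 < e by omega) (by linarith)
  have hj2 : j = 1 ∨ j = 2 := (Nat.dvd_prime Nat.prime_two).1 ⟨i, hij.symm⟩
  rcases hj2 with rfl | rfl
  · exact Or.inl (Subgroup.eq_of_le_of_card_ge hle (by rw [hj, C.card, mul_one])).symm
  · refine Or.inr (Subgroup.eq_of_le_of_card_ge ?_ ?_)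
    · intro c hc
      have hidx : (B.subgroupOf (Subgroup.centralizer ({b} : Set G))).index = 2 := by
        have h := (B.subgroupOf (Subgroup.centralizer ({b} : Set G))).card_mul_index
        rw [Nat.card_congr (Subgroup.subgroupOfEquivOfLe hle).toEquiv, C.card, hj] at h
        exact Nat.eq_of_mul_eq_mul_left (by omega) h
      have hn : (B.subgroupOf (Subgroup.centralizer ({b} : Set G))).Normal :=
        Subgroup.normal_of_index_eq_two hidx
      have h1 : c * t * c⁻¹ ∈ B := Subgroup.mem_subgroupOf.1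
        (hn.conj_mem ⟨t, hle C.tB⟩ (Subgroup.mem_subgroupOf.2 C.tB) ⟨c, hc⟩)
      have h2 := C.uniq _ h1 (by rw [orderOf_conj', C.t2])
      exact Subgroup.mem_centralizer_singleton_iff.2 (mul_inv_eq_iff_eq_mul.1 h2)
    · have h := (B.subgroupOf (Subgroup.centralizer ({t} : Set G))).card_mul_index
      rw [Nat.card_congr (Subgroup.subgroupOfEquivOfLe C.le).toEquiv, C.card, C.index] at h
      rw [hj, ← h]

theorem cent_le_t {b : G} (hb : b ∈ B) (hb1 : b ≠ 1) :
    Subgroup.centralizer ({b} : Set G) ≤ Subgroup.centralizer ({t} : Set G) := by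
  rcases C.cent_le S hb hb1 with h | h <;> rw [h]
  exact C.le

/-- An element of odd order dividing `e` is conjugate into `B`. -/
theorem conj_into {g : G} (hg1 : g ≠ 1) (hge : orderOf g ∣ e) (hodd : Odd (orderOf g)) :
    ∃ x : G, x⁻¹ * g * x ∈ B := by
  obtain ⟨r, hr, hrd⟩ := Nat.exists_prime_and_dvd (fun h => hg1 (orderOf_eq_one_iff.1 h))
  haveI : Fact r.Prime := ⟨hr⟩
  have hgr : orderOf (g ^ (orderOf g / r)) = r := orderOf_pow_orderOf_div (orderOf_pos g).ne' hrd
  set h := g ^ (orderOf g / r) with hh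
  have hr2 : Nat.Coprime r 2 := Nat.coprime_two_right.2 (hodd.of_dvd_nat hrd)
  have hndvd : ¬ r ∣ B.index := by
    intro hd
    have h1 := B.card_mul_index
    rw [C.card, S.card] at h1
    have h2 : B.index = q * k * 2 := by
      have := S.e2
      nlinarith
    exact hr.ne_one (Nat.eq_one_of_dvd_coprimes
      (((S.coprime_q_e.symm.coprime_dvd_left (hrd.trans hge)).mul_right
        (S.k_coprime_e.symm.coprime_dvd_left (hrd.trans hge))).mul_right hr2) dvd_rfl (h2 ▸ hd))
  have hP : IsPGroup r (Subgroup.zpowers h) :=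
    IsPGroup.of_card (n := 1) (by rw [Nat.card_zpowers, hgr, pow_one])
  obtain ⟨z, hz⟩ := hP.nonempty_fixed_point_of_prime_not_dvd_card (G ⧸ B)
    (by rwa [← Subgroup.index_eq_card])
  obtain ⟨y, rfl⟩ := QuotientGroup.mk_surjective z
  have h1 := hz ⟨h, Subgroup.mem_zpowers _⟩
  change ((h * y : G) : G ⧸ B) = _ at h1
  rw [eq_comm, QuotientGroup.eq, ← mul_assoc] at h1
  have hne : y⁻¹ * h * y ≠ 1 := fun he => hr.ne_one (by
    have : h = y * (y⁻¹ * h * y) * y⁻¹ := by group
    rw [← hgr, this, he]; simp)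
  have hodd' : Odd (orderOf (y⁻¹ * g * y)) := by
    rw [show y⁻¹ * g * y = y⁻¹ * g * y⁻¹⁻¹ by group, orderOf_conj']; exact hodd
  refine ⟨y, C.odd_mem (C.cent_le_t S h1 hne ?_) hodd'⟩
  rw [Subgroup.mem_centralizer_singleton_iff]
  have hc : g * h = h * g := (Commute.refl g).pow_right _
  calc y⁻¹ * g * y * (y⁻¹ * h * y) = y⁻¹ * (g * h) * y := by group
    _ = y⁻¹ * (h * g) * y := by rw [hc]
    _ = _ := by group

end Cyc

theorem Facts.card_invol (F : Facts G p q k e) (S : Spec G p f q k e) {t : G} (ht : orderOf t = 2) :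
    (Finset.univ.filter fun x : G => orderOf x = 2).card = q * k := by
  have h := card_conjClass_mul_centralizer t
  rw [F.centTwo t ht, S.card] at h
  have h2 : Nat.card {x : G // IsConj t x} = q * k := by
    have := S.e2
    exact Nat.eq_of_mul_eq_mul_right (show 0 < 2 * e by omega) h
  rw [← h2, Nat.card_eq_fintype_card, Fintype.card_subtype]
  congr 1
  ext x
  simp only [Finset.mem_filter, Finset.mem_univ, true_and]
  refine ⟨fun hx => F.invConj t x ht hx, fun hx => ?_⟩
  obtain ⟨b, rfl⟩ := isConj_iff.1 hx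
  rw [orderOf_conj', ht]

theorem Facts.exists_cyc (F : Facts G p q k e) (S : Spec G p f q k e) : ∃ t B, Cyc G e t B := by
  obtain ⟨y, hy⟩ := S.exe
  have he := S.e2
  obtain ⟨i, hi⟩ := S.he
  set t := y ^ i with ht
  set B := Subgroup.zpowers y
  have ht2 : orderOf t = 2 := by
    have := orderOf_pow_orderOf_div (x := y) (orderOf_pos y).ne' (hy.symm ▸ S.he.two_dvd : 2 ∣ orderOf y)
    rwa [hy, show e / 2 = i by omega] at this
  have hle : B ≤ Subgroup.centralizer ({t} : Set G) := by
    rw [Subgroup.zpowers_le, Subgroup.mem_centralizer_singleton_iff]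
    exact ((Commute.refl y).pow_right i).eq
  have hBc : Nat.card B = e := (Nat.card_zpowers y).trans hy
  refine ⟨t, B, ht2, hBc, Subgroup.pow_mem _ (Subgroup.mem_zpowers y) i, ?_, ?_, hle, ?_⟩
  · intro a ha b hb
    obtain ⟨m, rfl⟩ := Subgroup.mem_zpowers_iff.1 ha
    obtain ⟨n, rfl⟩ := Subgroup.mem_zpowers_iff.1 hb
    exact (Commute.refl y).zpow_zpow m n
  · intro a ha ha2
    obtain ⟨m, hm, rfl⟩ := Submonoid.mem_powers_iff a y |>.1 (mem_powers_iff_mem_zpowers.2 ha) |> fun ⟨m, hm⟩ =>
      (⟨m % e, Nat.mod_lt _ (by omega), by rw [← hm, ← hy, pow_mod_orderOf]⟩ : ∃ m, m < e ∧ y ^ m = a)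
    have h1 : orderOf y ∣ m * 2 := orderOf_dvd_of_pow_eq_one (by
      rw [pow_mul, ← ha2, pow_orderOf_eq_one])
    rw [hy] at h1
    have hm0 : m ≠ 0 := fun h => by rw [h, pow_zero, orderOf_one] at ha2; omega
    obtain ⟨c, hc⟩ := h1
    have : c = 1 := by
      rcases c with _ | _ | c
      · omega
      · rfl
      · exfalso; nlinarith
    subst this
    rw [ht, show m = i by omega]
  · have h := (B.subgroupOf (Subgroup.centralizer ({t} : Set G))).card_mul_index
    rw [Nat.card_congr (Subgroup.subgroupOfEquivOfLe hle).toEquiv, hBc, F.centTwo t ht2] at h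
    exact Nat.eq_of_mul_eq_mul_left (show 0 < e by omega) (h.trans (mul_comm 2 e))

variable {t : G} {B : Subgroup G}

/-- There is an involution in the centralizer outside `B`. -/
theorem exists_second (F : Facts G p q k e) (S : Spec G p f q k e) (C : Cyc G e t B) :
    ∃ s, orderOf s = 2 ∧ s ∈ Subgroup.centralizer ({t} : Set G) ∧ s ∉ B := by
  by_contra hne
  push Not at hne
  have huniq : ∀ x : G, orderOf x = 2 → x ∈ Subgroup.centralizer ({t} : Set G) → x = t :=
    fun x hx hxC => C.uniq x (hne x hx hxC) hx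
  obtain ⟨A, u, T⟩ := S.exists_torus
  set I := Finset.univ.filter fun x : G => orderOf x = 2 with hI
  have hIc : I.card = q * k := F.card_invol S C.t2
  set D := I ×ˢ I with hD
  have hinvert : ∀ w ∈ D, w.1 * (w.1 * w.2) * w.1⁻¹ = (w.1 * w.2)⁻¹ := by
    rintro ⟨x, y⟩ hw
    obtain ⟨hx, hy⟩ := Finset.mem_product.1 hw
    have h1 := conj_sq_one (Finset.mem_filter.1 hx).2
    have h2 := conj_sq_one (Finset.mem_filter.1 hy).2
    simp only [mul_inv_rev, inv_eq_of_mul_eq_one_right h1, inv_eq_of_mul_eq_one_right h2,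
      ← mul_assoc, h1, one_mul]
  set fib := fun z : G => D.filter fun w => w.1 * w.2 = z with hfib
  have hinj : ∀ z : G, Set.InjOn Prod.fst (fib z : Set (G × G)) := by
    intro z w hw w' hw' h
    have h1 : w.1 * w.2 = z := (Finset.mem_filter.1 hw).2
    have h2 : w'.1 * w'.2 = z := (Finset.mem_filter.1 hw').2
    refine Prod.ext h ?_
    rw [← h2, h] at h1
    exact mul_left_cancel h1
  have hone : ∀ z, (fib z).card ≤ q * k := by
    intro z
    rw [← hIc, ← Finset.card_image_of_injOn (hinj z)]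
    refine Finset.card_le_card fun x hx => ?_
    obtain ⟨w, hw, rfl⟩ := Finset.mem_image.1 hx
    exact (Finset.mem_product.1 (Finset.mem_filter.1 hw).1).1
  -- inverted elements of odd order dividing `e`
  have hoddInv : ∀ x g : G, orderOf x = 2 → g ≠ 1 → orderOf g ∣ e → Odd (orderOf g) →
      x * g * x⁻¹ ≠ g⁻¹ := by
    intro x g hx hg1 hge hodd hinv
    obtain ⟨c, hc⟩ := C.conj_into S hg1 hge hodd
    set a := c⁻¹ * g * c with ha
    set x' := c⁻¹ * x * c with hx'
    have hinv' : x' * a * x'⁻¹ = a⁻¹ := by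
      calc x' * a * x'⁻¹ = c⁻¹ * (x * g * x⁻¹) * c := by rw [ha, hx']; group
        _ = c⁻¹ * g⁻¹ * c := by rw [hinv]
        _ = a⁻¹ := by rw [ha]; group
    have ha1 : a ≠ 1 := fun h => hg1 (by
      have : g = c * a * c⁻¹ := by rw [ha]; group
      rw [this, h]; group)
    have hx'2 : orderOf x' = 2 := by
      rw [hx', show c⁻¹ * x * c = c⁻¹ * x * c⁻¹⁻¹ by group, orderOf_conj', hx]
    have h1 : x' * t * x'⁻¹ ∈ Subgroup.centralizer ({a} : Set G) := by
      have hta : t * a = a * t := C.comm _ C.tB _ hc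
      have hxa : x' * a⁻¹ * x'⁻¹ = a := by
        calc x' * a⁻¹ * x'⁻¹ = (x' * a * x'⁻¹)⁻¹ := by group
          _ = a := by rw [hinv', inv_inv]
      have hta' : t * a⁻¹ = a⁻¹ * t := (Commute.inv_right (hta : Commute t a)).eq
      rw [Subgroup.mem_centralizer_singleton_iff]
      calc x' * t * x'⁻¹ * a = x' * t * x'⁻¹ * (x' * a⁻¹ * x'⁻¹) := by rw [hxa]
        _ = x' * (t * a⁻¹) * x'⁻¹ := by group
        _ = x' * (a⁻¹ * t) * x'⁻¹ := by rw [hta']
        _ = x' * a⁻¹ * x'⁻¹ * (x' * t * x'⁻¹) := by group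
        _ = a * (x' * t * x'⁻¹) := by rw [hxa]
    have h2 := huniq _ (by rw [orderOf_conj', C.t2]) (C.cent_le_t S hc ha1 h1)
    have h3 := huniq _ hx'2 (Subgroup.mem_centralizer_singleton_iff.2 (mul_inv_eq_iff_eq_mul.1 h2))
    rw [h3] at hinv'
    have h4 : t * a * t⁻¹ = a := by rw [C.comm _ C.tB _ hc]; group
    rw [h4] at hinv'
    have h5 : a ^ 2 = 1 := by
      calc a ^ 2 = a * a := sq a
        _ = a⁻¹ * a := by rw [← hinv']
        _ = 1 := inv_mul_cancel a
    have h6 := orderOf_dvd_of_pow_eq_one h5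
    rw [ha, show c⁻¹ * g * c = c⁻¹ * g * c⁻¹⁻¹ by group, orderOf_conj'] at h6
    exact hg1 (orderOf_eq_one_iff.1 (Nat.eq_one_of_dvd_coprimes
      (Nat.coprime_two_left.2 hodd) h6 dvd_rfl))
  have he : ∀ z ∈ ordSet G e, (fib z).card = 0 := by
    intro z hz
    rw [Finset.card_eq_zero, Finset.filter_eq_empty_iff]
    rintro ⟨x, y⟩ hw h
    obtain ⟨hx, hy⟩ := Finset.mem_product.1 hw
    replace hx := (Finset.mem_filter.1 hx).2
    replace hy := (Finset.mem_filter.1 hy).2
    obtain ⟨hz1, hze⟩ := (Finset.mem_filter.1 hz).2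
    have hinv : x * z * x⁻¹ = z⁻¹ := by
      have := hinvert (x, y) hw
      simpa [h] using this
    rcases Nat.even_or_odd (orderOf z) with hev | hodd
    · set i := z ^ (orderOf z / 2) with hi
      have hi2 : orderOf i = 2 := orderOf_pow_orderOf_div (orderOf_pos z).ne' hev.two_dvd
      have hxi : x * i * x⁻¹ = i := by
        rw [hi, ← conj_pow, hinv, inv_pow, ← hi]
        exact inv_eq_of_mul_eq_one_right (conj_sq_one hi2)
      have hzi : z * i = i * z := (Commute.refl z).pow_right _
      -- move `i` to `t`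
      obtain ⟨c, hc⟩ := isConj_iff.1 (F.invConj i t hi2 C.t2)
      have hmem : ∀ w : G, w * i = i * w → orderOf w = 2 → w = i := by
        intro w hw hw2
        have : c * w * c⁻¹ ∈ Subgroup.centralizer ({t} : Set G) := by
          rw [Subgroup.mem_centralizer_singleton_iff, ← hc]
          calc c * w * c⁻¹ * (c * i * c⁻¹) = c * (w * i) * c⁻¹ := by group
            _ = c * (i * w) * c⁻¹ := by rw [hw]
            _ = c * i * c⁻¹ * (c * w * c⁻¹) := by group
        have h' := huniq _ (by rw [orderOf_conj', hw2]) this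
        rw [← hc] at h'
        exact mul_left_cancel (mul_right_cancel h')
      have hxe := hmem x (mul_inv_eq_iff_eq_mul.1 hxi) hx
      have hye := hmem y (by
        have hy' : y = x⁻¹ * z := by rw [← h]; simp
        have hxi' : Commute x i := mul_inv_eq_iff_eq_mul.1 hxi
        rw [hy']
        exact (hxi'.inv_left.mul_left hzi).eq) hy
      refine hz1 ?_
      rw [← h]
      change x * y = 1
      rw [hxe, hye]
      exact conj_sq_one hi2
    · exact hoddInv x z hx hz1 hze hodd hinv
  have hk : ∀ z ∈ ordSet G k, (fib z).card ≤ k := by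
    intro z hz
    obtain ⟨hz1, hzk⟩ := (Finset.mem_filter.1 hz).2
    obtain ⟨c, hc⟩ := T.inA z hz1 hzk
    rw [← Finset.card_image_of_injOn (hinj z)]
    calc ((fib z).image Prod.fst).card
        ≤ (Finset.univ.filter fun x : G => u * x ∈ A).card := by
          refine Finset.card_le_card_of_injOn (fun x => c⁻¹ * x * c) ?_ ?_
          · intro x hx
            obtain ⟨⟨x, y⟩, hw, rfl⟩ := Finset.mem_image.1 hx
            obtain ⟨hw1, hw2⟩ := Finset.mem_filter.1 hw
            have hx2 := (Finset.mem_filter.1 (Finset.mem_product.1 hw1).1).2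
            have hinv : x * z * x⁻¹ = z⁻¹ := by
              have := hinvert (x, y) hw1
              simpa [hw2] using this
            refine Finset.mem_filter.2 ⟨Finset.mem_univ _, ?_⟩
            refine (T.norm (c⁻¹ * x * c) _ hc (fun h => hz1 (by
              have : z = c * (c⁻¹ * z * c) * c⁻¹ := by group
              rw [this, h]; group)) ?_).resolve_left fun h => ?_
            · rw [show c⁻¹ * x * c * (c⁻¹ * z * c) * (c⁻¹ * x * c)⁻¹ = c⁻¹ * (x * z * x⁻¹) * c by group,
                hinv, show c⁻¹ * z⁻¹ * c = (c⁻¹ * z * c)⁻¹ by group]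
              exact A.inv_mem hc
            · have h2 : orderOf (c⁻¹ * x * c) ∣ Nat.card A := Subgroup.orderOf_dvd_natCard A h
              rw [show c⁻¹ * x * c = c⁻¹ * x * c⁻¹⁻¹ by group, orderOf_conj', hx2, T.card] at h2
              obtain ⟨j, hj⟩ := S.hk
              omega
          · intro a _ b _ h
            exact mul_left_cancel (mul_right_cancel h)
      _ = k := by
          have h1 : (Finset.univ.filter fun x : G => x ∈ A).card = k := by
            rw [← T.card, Nat.card_eq_fintype_card, Fintype.card_subtype]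
          conv_rhs => rw [← h1]
          exact Finset.card_equiv (Equiv.mulLeft u) fun x => by simp
  have hpb : ∀ z ∈ pSet G p, (fib z).card ≤ q ∧ (k = 3 → q = 7 → (fib z).card = 0) := by
    intro z hz
    have hzp := (Finset.mem_filter.1 hz).2
    by_cases hemp : fib z = ∅
    · simp [hemp]
    obtain ⟨⟨x₀, y₀⟩, hw₀⟩ := Finset.nonempty_iff_ne_empty.2 hemp
    obtain ⟨hw₀1, hw₀2⟩ := Finset.mem_filter.1 hw₀
    have hx₀ := (Finset.mem_filter.1 (Finset.mem_product.1 hw₀1).1).2
    have hinv₀ : x₀ * z * x₀⁻¹ = z⁻¹ := by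
      have := hinvert (x₀, y₀) hw₀1
      simpa [hw₀2] using this
    constructor
    · rw [← Finset.card_image_of_injOn (hinj z), ← F.centP z hzp, Nat.card_eq_fintype_card,
        Fintype.card_subtype]
      refine Finset.card_le_card_of_injOn (fun x => x₀⁻¹ * x) ?_ fun a _ b _ h => mul_left_cancel h
      intro x hx
      obtain ⟨⟨x, y⟩, hw, rfl⟩ := Finset.mem_image.1 hx
      obtain ⟨hw1, hw2⟩ := Finset.mem_filter.1 hw
      have hinv : x * z * x⁻¹ = z⁻¹ := by
        have := hinvert (x, y) hw1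
        simpa [hw2] using this
      refine Finset.mem_filter.2 ⟨Finset.mem_univ _, Subgroup.mem_centralizer_singleton_iff.2 ?_⟩
      calc x₀⁻¹ * x * z = x₀⁻¹ * (x * z * x⁻¹) * x := by group
        _ = x₀⁻¹ * (x₀ * z * x₀⁻¹) * x := by rw [hinv, hinv₀]
        _ = z * (x₀⁻¹ * x) := by group
    · intro hk3 hq7
      exfalso
      have hp7 : p = 7 := by
        have h7 : Nat.Prime 7 := by norm_num
        exact (Nat.prime_dvd_prime_iff_eq S.hp h7).1 (hq7 ▸ S.p_dvd_q)
      haveI : Fact (Nat.Prime 7) := ⟨by norm_num⟩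
      have he4 : e = 4 := by rcases S.hcase with ⟨a, b⟩ | ⟨a, b⟩ <;> omega
      have hG : Nat.card G = 168 := by rw [S.card, hk3, hq7, he4]
      set U : Sylow 7 G := Sylow.ofCard (Subgroup.zpowers z) (by
        rw [Nat.card_zpowers, hzp, hp7, hG, show (168 : ℕ) = 7 ^ 1 * 24 by norm_num,
          Nat.factorization_mul (by norm_num) (by norm_num), Finsupp.add_apply,
          Nat.Prime.factorization_pow (by norm_num), Finsupp.single_eq_same,
          Nat.factorization_eq_zero_of_not_dvd (show ¬ 7 ∣ 24 by norm_num)]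
        norm_num) with hU
      have hUz : (U : Subgroup G) = Subgroup.zpowers z := rfl
      set N := Subgroup.normalizer ((U : Subgroup G) : Set G) with hN
      have hxN : x₀ ∈ N := by
        refine Cfsg.Agent.Solv.mem_normalizer_of_conj_smul ?_
        rw [Cfsg.Agent.Solv.conj_smul_eq_map, hUz, MonoidHom.map_zpowers]
        show Subgroup.zpowers (x₀ * z * x₀⁻¹) = _
        rw [hinv₀, Subgroup.zpowers_inv]
      have hzN : z ∈ N := Subgroup.le_normalizer (hUz ▸ Subgroup.mem_zpowers z)
      have h14 : 14 ∣ Nat.card N := by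
        have h1 := Subgroup.orderOf_dvd_natCard N hxN
        have h2 := Subgroup.orderOf_dvd_natCard N hzN
        rw [hx₀] at h1
        rw [hzp, hp7] at h2
        exact Nat.Coprime.mul_dvd_of_dvd_of_dvd (by norm_num : Nat.Coprime 2 7) h1 h2
      have hidx := N.card_mul_index
      have hn : Nat.card (Sylow 7 G) = N.index := U.card_eq_index_normalizer
      have hmod := card_sylow_modEq_one 7 G
      rw [hn] at hmod
      obtain ⟨d, hd⟩ := h14
      rw [hd, hG] at hidx
      have h12 : N.index ∣ 12 := ⟨d, by linarith⟩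
      have h12' := Nat.le_of_dvd (by norm_num) h12
      have hn1 : N.index = 1 := by
        unfold Nat.ModEq at hmod
        obtain ⟨c, hc⟩ := h12
        interval_cases N.index <;> omega
      haveI : (U : Subgroup G).Normal := Subgroup.normalizer_eq_top_iff.1 (Subgroup.index_eq_one.1 hn1)
      have hsub : pSet G p ⊆ (Finset.univ.filter fun g : G => g ∈ (U : Subgroup G)) := by
        intro g hg
        refine Finset.mem_filter.2 ⟨Finset.mem_univ _, ?_⟩
        have hP : IsPGroup 7 (Subgroup.zpowers g) :=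
          IsPGroup.of_card (n := 1) (by rw [Nat.card_zpowers, (Finset.mem_filter.1 hg).2, hp7, pow_one])
        have hle := (IsPGroup.to_sup_of_normal_right hP U.isPGroup')
        have := U.is_maximal' hle le_sup_right
        exact this.le (Subgroup.mem_sup_left (Subgroup.mem_zpowers g))
      have h1 := Finset.card_le_card hsub
      rw [F.cardP, ← Fintype.card_subtype, ← Nat.card_eq_fintype_card,
        show Nat.card {g : G // g ∈ (U : Subgroup G)} = 7 from
          (Nat.card_zpowers z).trans (hzp.trans hp7), he4, hk3] at h1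
      omega
  have htot : D.card = ∑ z : G, (fib z).card :=
    Finset.card_eq_sum_card_fiberwise fun w _ => Finset.mem_univ _
  rw [hD, Finset.card_product, hIc, sum_split S, Finset.sum_eq_zero he, add_zero] at htot
  have h1 := hone 1
  have h2 : ∑ z ∈ ordSet G k, (fib z).card ≤ (ordSet G k).card * k :=
    Finset.sum_le_card_nsmul _ _ _ hk
  have hK := F.cardK
  have hP := F.cardP
  by_cases h7 : k = 3 ∧ q = 7
  · obtain ⟨hk3, hq7⟩ := h7
    rw [Finset.sum_eq_zero fun z hz => (hpb z hz).2 hk3 hq7, add_zero] at htot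
    have he4 : e = 4 := by rcases S.hcase with ⟨a, b⟩ | ⟨a, b⟩ <;> omega
    subst hk3; subst hq7; subst he4
    omega
  · have h3 : ∑ z ∈ pSet G p, (fib z).card ≤ (pSet G p).card * q :=
      Finset.sum_le_card_nsmul _ _ _ fun z hz => (hpb z hz).1
    rw [hP] at h3
    set K := (ordSet G k).card
    have hkk := S.hk3
    rcases S.hcase with ⟨a, b⟩ | ⟨a, b⟩
    · subst b
      have hk5 : 5 ≤ k := by
        obtain ⟨j, hj⟩ := S.hk
        omega
      subst a
      nlinarith
    · subst b
      obtain rfl : q = 2 * e + 1 := by omega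
      nlinarith

end Cfsg.Agent.Lead.PSLSpectrum
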