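import Cfsg.Agent.Lib.Lead.PSLSpectrum.Setup
import Cfsg.Agent.Lib.Char.BSW.Chars

/-!
# The spectrum of `PSL₂(q)`, `q` odd: the exceptional characters of the torus
-/

set_option autoImplicit false
set_option linter.unusedSectionVars false
set_option linter.style.haveILetI false

namespace Cfsg.Agent.Lead.PSLSpectrum

open Cfsg Cfsg.Agent.Char
open Cfsg.Agent.Char.BSW (diffFun phi mult coef oneC linC lin_orth)
open scoped ComplexConjugate Classical

variable {G : Type*} [Group G] [Fintype G] {k : ℕ} {A : Subgroup G} {u : G}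

theorem conj_hom {H : Type*} [Group H] [Finite H] (l : H →* ℂˣ) (y : H) :
    conj (l y : ℂ) = (l y⁻¹ : ℂ) :=
  (char_inv (isCharacter_linear l) y).symm

theorem hom_inv_ne_one {H : Type*} [Group H] {l : H →* ℂˣ} (hl : l ≠ 1) : l⁻¹ ≠ 1 := fun h =>
  hl (MonoidHom.ext fun y => inv_eq_one.1 (DFunLike.congr_fun h y))

theorem hom_inv_inv {H : Type*} [Group H] (l : H →* ℂˣ) : l⁻¹⁻¹ = l :=
  MonoidHom.ext fun _ => inv_inv _

namespace Torus

variable (T : Torus G k A u) (hk : Odd k) (hk3 : 3 ≤ k)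
include T

theorem uu : u * u = 1 := by rw [← sq, ← T.u2, pow_orderOf_eq_one]

theorem u_inv : u⁻¹ = u := inv_eq_of_mul_eq_one_right T.uu

theorem out_inv {x : G} (hx : u * x ∈ A) {a : G} (ha : a ∈ A) : x⁻¹ * a * x = a⁻¹ := by
  have hi : u * a * u = a⁻¹ := by
    have := T.inv a ha
    rwa [T.u_inv] at this
  have hc : a⁻¹ * (u * x) = u * x * a⁻¹ := T.comm _ (A.inv_mem ha) _ hx
  calc x⁻¹ * a * x = (u * x)⁻¹ * (u * a * u) * (u * x) := by
        rw [mul_inv_rev, T.u_inv]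
        simp only [mul_assoc, ← mul_assoc u u, T.uu, one_mul]
    _ = a⁻¹ := by rw [hi, mul_assoc, hc, ← mul_assoc, inv_mul_cancel, one_mul]

include hk in
theorem sq_eq_one {y : ↥A} (h : y = y⁻¹) : y = 1 := by
  have h2 : y ^ 2 = 1 := by
    calc y ^ 2 = y * y := sq y
      _ = y * y⁻¹ := by rw [← h]
      _ = 1 := mul_inv_cancel y
  exact orderOf_eq_one_iff.1 (Nat.eq_one_of_dvd_coprimes
    (Nat.coprime_two_left.2 (T.card.symm ▸ hk) : Nat.Coprime 2 (Nat.card A))
    (orderOf_dvd_of_pow_eq_one h2) (orderOf_dvd_natCard y))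

theorem phi_on (l : ↥A →* ℂˣ) (y : ↥A) :
    phi l (y : G) = diffFun l y + diffFun l y⁻¹ := by
  rcases eq_or_ne y 1 with rfl | hy
  · rw [OneMemClass.coe_one, BSW.phi_one, inv_one, BSW.diffFun_one, add_zero]
  have hA : (Nat.card A : ℂ) ≠ 0 := Nat.cast_ne_zero.2 Nat.card_pos.ne'
  have hy' : (y : G) ≠ 1 := fun h => hy (Subtype.ext h)
  have hterm : ∀ x : G, extendByZero A (diffFun l) (x⁻¹ * (y : G) * x) =
      (if x ∈ A then diffFun l y else 0) + (if u * x ∈ A then diffFun l y⁻¹ else 0) := by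
    intro x
    have hboth : x ∈ A → u * x ∉ A := fun h1 h2 =>
      T.notMem (by simpa using A.mul_mem h2 (A.inv_mem h1))
    by_cases hxA : x ∈ A
    · rw [if_pos hxA, if_neg (hboth hxA), add_zero]
      have e : x⁻¹ * (y : G) * x = y := by
        rw [mul_assoc, T.comm y y.2 x hxA, ← mul_assoc, inv_mul_cancel, one_mul]
      rw [e, extendByZero_mem A _ y.2]
    · by_cases hux : u * x ∈ A
      · rw [if_neg hxA, if_pos hux, zero_add, T.out_inv hux y.2]
        exact extendByZero_mem A _ (y⁻¹).2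
      · rw [if_neg hxA, if_neg hux, add_zero]
        refine extendByZero_not_mem A _ fun h => ?_
        rcases T.norm x⁻¹ y y.2 hy' (by rwa [inv_inv]) with h' | h'
        · exact hxA (inv_mem_iff.1 h')
        · refine hux ?_
          have h2 : u * x = u * ((u * x⁻¹)⁻¹) * u := by
            rw [mul_inv_rev, inv_inv, T.u_inv]; simp [mul_assoc, T.uu]
          have h3 := T.inv _ (A.inv_mem h')
          rw [T.u_inv] at h3
          rw [h2, h3, inv_inv]
          exact h'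
  have h1 : (Finset.univ.filter fun x : G => x ∈ A).card = Nat.card A := by
    rw [Nat.card_eq_fintype_card, Fintype.card_subtype]
  have h2 : (Finset.univ.filter fun x : G => u * x ∈ A).card = Nat.card A := by
    rw [← h1]
    exact Finset.card_equiv (Equiv.mulLeft u) fun x => by simp
  rw [phi, indFun, Finset.sum_congr rfl fun x _ => hterm x, Finset.sum_add_distrib,
    ← Finset.sum_filter, ← Finset.sum_filter, Finset.sum_const, Finset.sum_const, h1, h2,
    nsmul_eq_mul, nsmul_eq_mul, ← mul_add, ← mul_assoc, inv_mul_cancel₀ hA, one_mul]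

theorem linC_surjective : Function.Surjective (linC (K := A)) := by
  intro θ
  have hc : ∀ a b : ↥A, a * b = b * a := fun a b => Subtype.ext (T.comm a a.2 b b.2)
  obtain ⟨l, hl⟩ := exists_hom_of_degree_one (irr_isCharacter θ.2) (forall_linear_iff_comm.1 hc θ)
  exact ⟨l, Subtype.ext (by rw [hl]; rfl)⟩

theorem card_dual : Nat.card (↥A →* ℂˣ) = k := by
  rw [card_hom_units]
  have : commutator ↥A = ⊥ := by
    rw [commutator_def, eq_bot_iff, Subgroup.commutator_le]
    intro a _ b _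
    rw [Subgroup.mem_bot, commutatorElement_eq_one_iff_mul_comm]
    exact Subtype.ext (T.comm a a.2 b b.2)
  rw [this, Subgroup.index_bot, T.card]

theorem dual_sum (y : ↥A) :
    ∑ l : ↥A →* ℂˣ, (l y : ℂ) = if y = 1 then (k : ℂ) else 0 := by
  have hbij : Function.Bijective (linC (K := A)) := ⟨BSW.linC_injective, T.linC_surjective⟩
  have h1 := second_orth (G := ↥A) y 1
  rw [← hbij.sum_comp (fun χ : IrrCharacter ↥A => (χ : ↥A → ℂ) y * conj ((χ : ↥A → ℂ) 1))] at h1
  simp only [linC, map_one, Units.val_one, mul_one] at h1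
  rw [h1]
  by_cases hy : y = 1
  · subst hy
    rw [if_pos (IsConj.refl _), if_pos rfl]
    have hsub : Subsingleton {x : ↥A // IsConj 1 x} :=
      ⟨fun a b => Subtype.ext ((isConj_one_right.1 a.2).trans (isConj_one_right.1 b.2).symm)⟩
    haveI : Nonempty {x : ↥A // IsConj 1 x} := ⟨⟨1, IsConj.refl _⟩⟩
    rw [Nat.card_eq_one_iff_unique.2 ⟨hsub, inferInstance⟩, Nat.cast_one, div_one, T.card]
  · rw [if_neg (fun e => hy (isConj_one_left.1 e)), if_neg hy]

include hk in
theorem hom_ne_inv {l : ↥A →* ℂˣ} (hl : l ≠ 1) : l ≠ l⁻¹ := by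
  intro h
  refine hl (MonoidHom.ext fun y => ?_)
  have h1 : l (y * y) = 1 := by
    rw [map_mul]
    calc l y * l y = l y * (l⁻¹ : ↥A →* ℂˣ) y := by rw [← h]
      _ = 1 := by rw [MonoidHom.inv_apply, mul_inv_cancel]
  obtain ⟨j, hj⟩ := hk
  have h2 : y = (y * y) ^ (j + 1) := by
    rw [← sq, ← pow_mul, show 2 * (j + 1) = Nat.card A + 1 by rw [T.card]; omega, pow_succ,
      pow_card_eq_one', one_mul]
  rw [h2, map_pow, h1, one_pow, MonoidHom.one_apply]

theorem phi_inner (l l' : ↥A →* ℂˣ) (hl : l ≠ 1) (hl' : l' ≠ 1) :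
    classInner (phi l) (phi l') =
      2 + (if l = l' then 1 else 0) + (if l = l'⁻¹ then (1 : ℂ) else 0) := by
  rw [phi, frobenius A _ (χ := phi l') (isClassFunction_indFun A _)]
  have hd : diffFun l = (fun y : ↥A => ((1 : ↥A →* ℂˣ) y : ℂ)) - fun y : ↥A => (l y : ℂ) := by
    funext y; simp [diffFun]
  have hr : (fun y : ↥A => phi l' (y : G)) =
      ((fun y : ↥A => ((1 : ↥A →* ℂˣ) y : ℂ)) - fun y : ↥A => (l' y : ℂ)) +
      ((fun y : ↥A => ((1 : ↥A →* ℂˣ) y : ℂ)) - fun y : ↥A => ((l'⁻¹ : ↥A →* ℂˣ) y : ℂ)) := by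
    funext y
    rw [T.phi_on]
    simp [diffFun]
  rw [hd, hr]
  simp only [classInner_sub_left, classInner_sub_right, classInner_add_right, lin_orth]
  have hl'' : ¬ ((1 : ↥A →* ℂˣ) = l'⁻¹) := fun e => hom_inv_ne_one hl' e.symm
  rw [if_neg (Ne.symm hl'), if_neg hl, if_neg hl'']
  simp only [if_true]
  ring

theorem coef_inner (l l' : ↥A →* ℂˣ) (hl : l ≠ 1) (hl' : l' ≠ 1) :
    ∑ χ : IrrCharacter G, coef l χ * coef l' χ =
      2 + (if l = l' then 1 else 0) + (if l = l'⁻¹ then 1 else 0) := by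
  have h1 := T.phi_inner l l' hl hl'
  rw [BSW.phi_expand l, classInner_sum_left] at h1
  have h2 : ∀ χ : IrrCharacter G, classInner ((coef l χ : ℂ) • (χ : G → ℂ)) (phi l') =
      ((coef l χ * coef l' χ : ℤ) : ℂ) := by
    intro χ
    rw [classInner_smul_left, ← classInner_symm (phi l'), BSW.phi_coef]
    simp
  rw [Finset.sum_congr rfl fun χ _ => h2 χ, ← Int.cast_sum] at h1
  split_ifs at h1 ⊢ <;> norm_num at h1 ⊢ <;> exact_mod_cast h1

/-- Restriction to the non-trivial elements of `A` is read off the coefficients. -/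
theorem char_on (χ : IrrCharacter G) {y : ↥A} (hy : y ≠ 1) :
    (χ : G → ℂ) (y : G) = -∑ l : ↥A →* ℂˣ, (coef l χ : ℂ) * (l y : ℂ) := by
  have hbij : Function.Bijective (linC (K := A)) := ⟨BSW.linC_injective, T.linC_surjective⟩
  have h1 := congrFun (char_expansion (isCharacter_comp A.subtype (irr_isCharacter χ.2))) y
  simp only [Finset.sum_apply, Pi.smul_apply, smul_eq_mul] at h1
  rw [← hbij.sum_comp (fun θ : IrrCharacter ↥A =>
    classInner ((χ : G → ℂ) ∘ ⇑A.subtype) (θ : ↥A → ℂ) * (θ : ↥A → ℂ) y)] at h1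
  have h0 : (0 : ℂ) = (mult χ (1 : ↥A →* ℂˣ) : ℂ) * ∑ l : ↥A →* ℂˣ, (l y : ℂ) := by
    rw [T.dual_sum y, if_neg hy, mul_zero]
  rw [show (χ : G → ℂ) (y : G) = ((χ : G → ℂ) ∘ ⇑A.subtype) y from rfl, h1, eq_neg_iff_add_eq_zero,
    h0, Finset.mul_sum, ← Finset.sum_add_distrib]
  refine Finset.sum_congr rfl fun l _ => ?_
  rw [show classInner ((χ : G → ℂ) ∘ ⇑A.subtype) (linC l : ↥A → ℂ) = (mult χ l : ℂ) from BSW.mult_spec χ l]
  rw [coef]
  simp [linC]
  ring

end Torus

/-- The exceptional characters: `Ind (1 - l) = 1 + δ ψ + ε η_l`. -/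
structure Star (A : Subgroup G) (ψ : IrrCharacter G) (δ : ℤ)
    (η : (↥A →* ℂˣ) → IrrCharacter G) (ε : ℤ) : Prop where
  hδ : δ = 1 ∨ δ = -1
  hε : ε = 1 ∨ ε = -1
  psi_ne : ψ ≠ oneC
  eta_ne : ∀ l, l ≠ 1 → η l ≠ oneC
  eta_psi : ∀ l, l ≠ 1 → η l ≠ ψ
  spec : ∀ l, l ≠ 1 → ∀ χ, coef l χ =
    (if χ = oneC then 1 else 0) + (if χ = ψ then δ else 0) + (if χ = η l then ε else 0)

theorem deg_one' : deg ((oneC : IrrCharacter G) : G → ℂ) = 1 := by
  have h := char_one_eq_deg (irr_isCharacter (oneC : IrrCharacter G).2)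
  simp only [oneC] at h ⊢
  exact_mod_cast h.symm

theorem sq_sum_two {ι : Type*} [Fintype ι] (F : ι → ℤ) (h : ∑ i, F i * F i = 2) :
    ∃ a b, a ≠ b ∧ (F a = 1 ∨ F a = -1) ∧ (F b = 1 ∨ F b = -1) ∧
      ∀ i, i ≠ a → i ≠ b → F i = 0 := by
  set T := Finset.univ.filter fun i => F i ≠ 0 with hT
  have hone : ∀ i, F i = 0 ∨ F i = 1 ∨ F i = -1 := fun i => by
    have hle : F i * F i ≤ 2 := h ▸
      Finset.single_le_sum (f := fun i => F i * F i) (fun j _ => mul_self_nonneg _) (Finset.mem_univ i)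
    have : F i ≤ 1 ∧ -1 ≤ F i := by constructor <;> nlinarith
    omega
  have hcard : T.card = 2 := by
    have h1 : ∑ i, F i * F i = ∑ i, (if F i ≠ 0 then (1 : ℤ) else 0) :=
      Finset.sum_congr rfl fun i _ => by rcases hone i with e | e | e <;> simp [e]
    rw [h, Finset.sum_boole] at h1
    exact_mod_cast h1.symm
  obtain ⟨a, b, hab, hTab⟩ := Finset.card_eq_two.1 hcard
  have hmem : ∀ i, F i ≠ 0 ↔ i = a ∨ i = b := fun i => by
    have : i ∈ T ↔ i ∈ ({a, b} : Finset ι) := by rw [hTab]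
    simpa [hT] using this
  refine ⟨a, b, hab, (hone a).resolve_left ((hmem a).2 (Or.inl rfl)),
    (hone b).resolve_left ((hmem b).2 (Or.inr rfl)), fun i hia hib => ?_⟩
  by_contra hne
  rcases (hmem i).1 hne with e | e
  · exact hia e
  · exact hib e

namespace Torus

variable (T : Torus G k A u) (hk : Odd k) (hk3 : 3 ≤ k)
include T

include hk3 in
theorem exists_ne_one : ∃ l : ↥A →* ℂˣ, l ≠ 1 := by
  haveI : Nontrivial (↥A →* ℂˣ) := by
    rw [← Finite.one_lt_card_iff_nontrivial, T.card_dual]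
    omega
  exact exists_ne 1

theorem deg_equation (l : ↥A →* ℂˣ) :
    ∑ χ : IrrCharacter G, coef l χ * (deg (χ : G → ℂ) : ℤ) = 0 := by
  have h : phi l (1 : G) = 0 := BSW.phi_one l
  rw [BSW.phi_expand l] at h
  simp only [Finset.sum_apply, Pi.smul_apply, smul_eq_mul,
    fun χ : IrrCharacter G => char_one_eq_deg (irr_isCharacter χ.2)] at h
  exact_mod_cast h

include hk hk3 in
theorem exists_star : ∃ (ψ : IrrCharacter G) (δ : ℤ) (η : (↥A →* ℂˣ) → IrrCharacter G) (ε : ℤ),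
    Star A ψ δ η ε := by
  -- the coefficients away from the trivial character
  set F : (↥A →* ℂˣ) → IrrCharacter G → ℤ := fun l χ => if χ = oneC then 0 else coef l χ with hF
  have hF1 : ∀ l, F l oneC = 0 := fun l => if_pos rfl
  have hcoef : ∀ l, l ≠ 1 → ∀ χ, coef l χ = (if χ = oneC then 1 else 0) + F l χ := by
    intro l hl χ
    by_cases h : χ = oneC
    · subst h; rw [BSW.coef_trivial hl, hF1, if_pos rfl, add_zero]
    · simp [hF, h]
  have hFF : ∀ l l', l ≠ 1 → l' ≠ 1 → ∑ χ, F l χ * F l' χ =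
      1 + (if l = l' then 1 else 0) + (if l = l'⁻¹ then 1 else 0) := by
    intro l l' hl hl'
    have h1 := T.coef_inner l l' hl hl'
    have h2 : ∀ χ, coef l χ * coef l' χ = (if χ = oneC then 1 else 0) + F l χ * F l' χ := by
      intro χ
      rw [hcoef l hl, hcoef l' hl']
      by_cases h : χ = oneC
      · subst h; simp [hF1]
      · simp [h]
    rw [Finset.sum_congr rfl fun χ _ => h2 χ, Finset.sum_add_distrib, Finset.sum_ite_eq',
      if_pos (Finset.mem_univ _)] at h1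
    linarith
  have hself : ∀ l, l ≠ 1 → ∑ χ, F l χ * F l χ = 2 := fun l hl => by
    rw [hFF l l hl hl, if_pos rfl, if_neg (T.hom_ne_inv hk hl)]; rfl
  have hdeg : ∀ l, l ≠ 1 → ∑ χ, F l χ * (deg (χ : G → ℂ) : ℤ) = -1 := by
    intro l hl
    have h1 := T.deg_equation l
    simp only [hcoef l hl, add_mul, Finset.sum_add_distrib, ite_mul, one_mul, zero_mul,
      Finset.sum_ite_eq', Finset.mem_univ, if_true, deg_one', Nat.cast_one] at h1
    linarith
  choose a b hab ha hb hrest using fun l (hl : l ≠ 1) => sq_sum_two _ (hself l hl)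
  -- sums against a two element support
  have hsum : ∀ (l) (hl : l ≠ 1) (g : IrrCharacter G → ℤ),
      ∑ χ, F l χ * g χ = F l (a l hl) * g (a l hl) + F l (b l hl) * g (b l hl) := by
    intro l hl g
    rw [← Finset.sum_pair (f := fun χ => F l χ * g χ) (hab l hl)]
    refine (Finset.sum_subset (Finset.subset_univ _) fun χ _ hχ => ?_).symm
    simp only [Finset.mem_insert, Finset.mem_singleton, not_or] at hχ
    rw [hrest l hl χ hχ.1 hχ.2, zero_mul]
  have hdeg' : ∀ (l) (hl : l ≠ 1), F l (a l hl) * (deg (a l hl : G → ℂ) : ℤ) +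
      F l (b l hl) * (deg (b l hl : G → ℂ) : ℤ) = -1 := fun l hl => by
    rw [← hsum l hl fun χ => (deg (χ : G → ℂ) : ℤ)]; exact hdeg l hl
  have hpart : ∀ (l) (hl : l ≠ 1) (x : IrrCharacter G), F l x ≠ 0 → ∃ y, y ≠ x ∧ y ≠ oneC ∧
      x ≠ oneC ∧ (F l x = 1 ∨ F l x = -1) ∧ (F l y = 1 ∨ F l y = -1) ∧
      (∀ χ, χ ≠ x → χ ≠ y → F l χ = 0) ∧
      F l x * (deg (x : G → ℂ) : ℤ) + F l y * (deg (y : G → ℂ) : ℤ) = -1 := by
    intro l hl x hx
    have hne : ∀ y, (F l y = 1 ∨ F l y = -1) → y ≠ oneC := fun y hy e => by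
      rw [e, hF1] at hy; omega
    by_cases hxa : x = a l hl
    · exact ⟨b l hl, hxa ▸ (hab l hl).symm, hne _ (hb l hl), hxa ▸ hne _ (ha l hl), hxa ▸ ha l hl,
        hb l hl, fun χ h1 h2 => hrest l hl χ (hxa ▸ h1) h2, hxa ▸ hdeg' l hl⟩
    · have hxb : x = b l hl := by
        by_contra h; exact hx (hrest l hl x hxa h)
      refine ⟨a l hl, hxb ▸ hab l hl, hne _ (ha l hl), hxb ▸ hne _ (hb l hl), hxb ▸ hb l hl, ha l hl,
        fun χ h1 h2 => hrest l hl χ h2 (hxb ▸ h1), ?_⟩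
      rw [hxb, add_comm]; exact hdeg' l hl
  obtain ⟨l₀, hl₀⟩ := T.exists_ne_one hk3
  obtain ⟨x, δ, hx, hδ, hall⟩ : ∃ (x : IrrCharacter G) (δ : ℤ), x ≠ oneC ∧ (δ = 1 ∨ δ = -1) ∧
      ∀ l, l ≠ 1 → F l x = δ := by
    have hsame : ∀ l l', l ≠ 1 → l' = l⁻¹ → ∀ χ, F l χ = F l' χ := by
      intro l l' hl e χ
      subst e
      have hl' : l⁻¹ ≠ 1 := hom_inv_ne_one hl
      have h1 : ∑ χ, (F l χ - F l⁻¹ χ) * (F l χ - F l⁻¹ χ) = 0 := by
        simp only [sub_mul, mul_sub, Finset.sum_sub_distrib]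
        rw [hFF l l⁻¹ hl hl', hFF l⁻¹ l hl' hl, hself l hl, hself l⁻¹ hl', hom_inv_inv, if_pos rfl,
          if_pos rfl, if_neg (T.hom_ne_inv hk hl), if_neg (T.hom_ne_inv hk hl).symm]
        rfl
      have h2 := (Finset.sum_eq_zero_iff_of_nonneg fun χ _ => mul_self_nonneg _).1 h1 χ
        (Finset.mem_univ χ)
      exact sub_eq_zero.1 (mul_self_eq_zero.1 h2)
    by_cases hm : ∃ m : ↥A →* ℂˣ, m ≠ 1 ∧ m ≠ l₀ ∧ m ≠ l₀⁻¹
    · obtain ⟨m, hm1, hm2, hm3⟩ := hm
      -- two supports meet in exactly one point, with the same sign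
      have hmeet : ∀ l l', l ≠ 1 → l' ≠ 1 → l ≠ l' → l ≠ l'⁻¹ →
          ∃ x y z, y ≠ x ∧ z ≠ x ∧ y ≠ z ∧ x ≠ oneC ∧ (F l x = 1 ∨ F l x = -1) ∧ F l' x = F l x ∧
            F l y ≠ 0 ∧ F l' z ≠ 0 ∧ F l z = 0 ∧ F l' y = 0 ∧
            (∀ χ, χ ≠ x → χ ≠ y → F l χ = 0) ∧ (∀ χ, χ ≠ x → χ ≠ z → F l' χ = 0) := by
        intro l l' hl hl' h1 h2
        have h := hFF l l' hl hl'
        rw [if_neg h1, if_neg h2, hsum l hl] at h
        obtain ⟨x, hxl, hxl'⟩ : ∃ x, F l x ≠ 0 ∧ F l' x ≠ 0 := by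
          by_contra hn
          push Not at hn
          have e1 : F l' (a l hl) = 0 := hn _ (by rcases ha l hl with e | e <;> omega)
          have e2 : F l' (b l hl) = 0 := hn _ (by rcases hb l hl with e | e <;> omega)
          rw [e1, e2] at h
          simp at h
        obtain ⟨y, hyx, -, hx1, hFx, hFy, hry, -⟩ := hpart l hl x hxl
        obtain ⟨z, hzx, -, -, hFx', hFz, hrz, -⟩ := hpart l' hl' x hxl'
        have h' := hFF l l' hl hl'
        rw [if_neg h1, if_neg h2, ← Finset.sum_subset (s₁ := {x, y}) (Finset.subset_univ _)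
          (fun χ _ hχ => by
            simp only [Finset.mem_insert, Finset.mem_singleton, not_or] at hχ
            rw [hry χ hχ.1 hχ.2, zero_mul]), Finset.sum_pair hyx.symm] at h'
        have hyz : y ≠ z := by
          intro e
          subst e
          rcases hFx with p1 | p1 <;> rcases hFy with p2 | p2 <;> rcases hFx' with p3 | p3 <;>
            rcases hFz with p4 | p4 <;> rw [p1, p2, p3, p4] at h' <;> omega
        have hy0 : F l' y = 0 := hrz y hyx hyz
        rw [hy0, mul_zero, add_zero] at h'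
        refine ⟨x, y, z, hyx, hzx, hyz, hx1, hFx, ?_, ?_, ?_, hry z hzx hyz.symm, hy0, hry, hrz⟩
        · rcases hFx with p1 | p1 <;> rcases hFx' with p3 | p3 <;> rw [p1, p3] at h' <;> omega
        · rcases hFy with e | e <;> omega
        · rcases hFz with e | e <;> omega
      obtain ⟨x, y, z, hyx, hzx, hyz, hx1, hFx, hFx', hFy, hFz, hz0, hy0, hry, hrz⟩ :=
        hmeet l₀ m hl₀ hm1 (Ne.symm hm2) (fun h => hm3 (by rw [h, hom_inv_inv]))
      refine ⟨x, F l₀ x, hx1, hFx, fun l hl => ?_⟩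
      by_cases e1 : l = l₀
      · rw [e1]
      by_cases e2 : l = l₀⁻¹
      · exact (hsame l₀ l hl₀ e2 x).symm
      by_cases e3 : l = m
      · rw [e3, hFx']
      by_cases e4 : l = m⁻¹
      · rw [← hsame m l hm1 e4 x, hFx']
      by_contra hne
      obtain ⟨x', y', z', hy'x, hz'x, -, -, -, hlx', -, hz', hz'0, -, hry', hrz'⟩ :=
        hmeet l₀ l hl₀ hl (Ne.symm e1) (fun h => e2 (by rw [h, hom_inv_inv]))
      have hlx0 : F l x = 0 := by
        by_contra h0
        by_cases hc : x = x'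
        · exact hne (hc ▸ hlx')
        · by_cases hc' : x = z'
          · exact (by rcases hFx with e | e <;> omega : F l₀ x ≠ 0) (hc' ▸ hz'0)
          · exact h0 (hrz' x hc hc')
      obtain ⟨x'', y'', z'', -, -, -, -, hmx'', hlx'', -, -, -, -, hry'', -⟩ :=
        hmeet m l hm1 hl (Ne.symm e3) (fun h => e4 (by rw [h, hom_inv_inv]))
      -- the common points are `y` and `z`
      have hx'0 : F l₀ x' ≠ 0 := by
        intro h0
        have := hFF l₀ l hl₀ hl
        rw [if_neg (Ne.symm e1), if_neg (fun h => e2 (by rw [h, hom_inv_inv])),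
          Finset.sum_eq_zero fun χ _ => ?_] at this
        · omega
        · by_cases c : χ = x'
          · rw [c, h0, zero_mul]
          · by_cases c' : χ = z'
            · rw [c', hz'0, zero_mul]
            · rw [hrz' χ c c', mul_zero]
      have hxy : x' = y := by
        by_contra h
        exact hx'0 (hry x' (fun e => by rw [e, hlx0] at hlx'; exact hx'0 (e ▸ hlx'.symm)) h)
      subst hxy
      have hxz : x'' = z := by
        by_contra h
        have h2 : x'' ≠ x := fun e => by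
          rw [e, hlx0, hFx'] at hlx''
          rcases hFx with p1 | p1 <;> omega
        have := hrz x'' h2 h
        rcases hmx'' with e | e <;> omega
      subst hxz
      obtain ⟨w, hw, -, -, -, -, hrw0, hd1⟩ := hpart l₀ hl₀ x (by rcases hFx with e | e <;> omega)
      obtain ⟨w', hw', -, -, -, -, hrw', hd2⟩ := hpart m hm1 x (by rw [hFx']; rcases hFx with e | e <;> omega)
      obtain rfl : w = x' := by
        by_contra h; exact hFy (hrw0 x' hyx (Ne.symm h))
      obtain rfl : w' = x'' := by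
        by_contra h; exact hFz (hrw' x'' hzx (Ne.symm h))
      obtain ⟨v, hv, -, -, -, -, hrv, hd3⟩ := hpart l hl w (by rw [hlx']; exact hFy)
      obtain rfl : v = w' := by
        by_contra h
        exact (by rw [hlx'']; exact hFz : F l w' ≠ 0) (hrv w' hyz.symm (Ne.symm h))
      rw [hlx', hlx''] at hd3
      rw [hFx'] at hd2
      omega
    · push Not at hm
      obtain ⟨y, -, -, hx1, hFx, -, -, -⟩ :=
        hpart l₀ hl₀ (a l₀ hl₀) (by rcases ha l₀ hl₀ with e | e <;> omega)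
      refine ⟨a l₀ hl₀, _, hx1, hFx, fun l hl => ?_⟩
      by_cases e : l = l₀
      · rw [e]
      · exact (hsame l₀ l hl₀ (hm l hl e) _).symm
  have hη : ∀ l, l ≠ 1 → ∃ y, y ≠ x ∧ y ≠ oneC ∧ (F l y = 1 ∨ F l y = -1) ∧
      (∀ χ, χ ≠ x → χ ≠ y → F l χ = 0) ∧
      δ * (deg (x : G → ℂ) : ℤ) + F l y * (deg (y : G → ℂ) : ℤ) = -1 := by
    intro l hl
    obtain ⟨y, h1, h2, -, -, h5, h6, h7⟩ := hpart l hl x (by rw [hall l hl]; omega)
    exact ⟨y, h1, h2, h5, h6, by rw [← hall l hl]; exact h7⟩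
  haveI : Nonempty (IrrCharacter G) := ⟨oneC⟩
  choose! η hη1 hη2 hη3 hη4 hη5 using hη
  refine ⟨x, δ, η, F l₀ (η l₀), hδ, hη3 l₀ hl₀, hx, hη2, hη1, fun l hl χ => ?_⟩
  have hεl : F l (η l) = F l₀ (η l₀) := by
    have h1 := hη5 l hl
    have h2 := hη5 l₀ hl₀
    have p1 : (0 : ℤ) < deg (η l : G → ℂ) := by exact_mod_cast deg_pos (η l).2
    have p2 : (0 : ℤ) < deg (η l₀ : G → ℂ) := by exact_mod_cast deg_pos (η l₀).2
    rcases hη3 l hl with e | e <;> rcases hη3 l₀ hl₀ with e' | e' <;> rw [e] at h1 <;>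
      rw [e'] at h2 <;> rw [e, e'] <;> omega
  rw [hcoef l hl χ, ← hεl, add_assoc]
  congr 1
  by_cases h1 : χ = x
  · rw [if_pos h1, if_neg (h1.trans_ne (hη1 l hl).symm), add_zero, h1, hall l hl]
  · by_cases h2 : χ = η l
    · rw [if_neg h1, if_pos h2, zero_add, h2]
    · rw [if_neg h1, if_neg h2, hη4 l hl χ h1 h2, add_zero]

end Torus

end Cfsg.Agent.Lead.PSLSpectrum
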