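import Cfsg.Agent.Lib.Lead.PSLSpectrum.Values

/-!
# The spectrum of `PSL₂(q)`, `q` odd: the degree of the common exceptional constituent
-/

set_option autoImplicit false
set_option linter.unusedSectionVars false
set_option linter.style.haveILetI false

namespace Cfsg.Agent.Lead.PSLSpectrum

open Cfsg Cfsg.Agent.Char
open Cfsg.Agent.Char.BSW (diffFun phi mult coef oneC linC lin_orth)
open scoped ComplexConjugate Classical

variable {G : Type*} [Group G] [Fintype G] {p f q k e : ℕ} {A : Subgroup G} {u : G}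
variable {ψ : IrrCharacter G} {δ : ℤ} {η : (↥A →* ℂˣ) → IrrCharacter G} {ε : ℤ}

theorem InA.orderOf_dvd {T : Torus G k A u} {g : G} (h : InA A g) : orderOf g ∣ k := by
  obtain ⟨-, x, hx⟩ := h
  have h2 : orderOf (x⁻¹ * g * x) ∣ Nat.card A := Subgroup.orderOf_dvd_natCard A hx
  rwa [show x⁻¹ * g * x = MulAut.conj x⁻¹ g by simp, MulEquiv.orderOf_eq, T.card] at h2

theorem Torus.not_inA_of_two (T : Torus G k A u) (hk : Odd k) {z : G} (hz : orderOf z = 2) :
    ¬ InA A z := fun h => by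
  have h2 := h.orderOf_dvd (T := T)
  rw [hz] at h2
  obtain ⟨j, hj⟩ := hk
  omega

theorem Torus.exists_ne (T : Torus G k A u) (hk3 : 3 ≤ k) : ∃ y : ↥A, y ≠ 1 := by
  haveI : Nontrivial ↥A := by
    rw [← Finite.one_lt_card_iff_nontrivial, T.card]
    omega
  exact _root_.exists_ne 1

theorem sdeg_sq (ψ : IrrCharacter G) {δ : ℤ} (hδ : δ = 1 ∨ δ = -1) :
    sdeg ψ δ ^ 2 = (deg (ψ : G → ℂ) : ℤ) ^ 2 := by
  rcases hδ with h | h <;> rw [sdeg, h] <;> ring

/-- The common constituent has signed degree `± q`, with the sign fixed by `q` mod `4`. -/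
structure Good (G : Type*) [Group G] [Fintype G] (q k : ℕ) (A : Subgroup G) (ψ : IrrCharacter G)
    (δ : ℤ) (η : (↥A →* ℂˣ) → IrrCharacter G) (ε : ℤ) : Prop where
  star : Star A ψ δ η ε
  val : (q = 2 * k + 1 ∧ sdeg ψ δ = q) ∨ (q + 1 = 2 * k ∧ sdeg ψ δ = -(q : ℤ))

variable (S : Spec G p f q k e) (T : Torus G k A u) (H : Star A ψ δ η ε)

include S T H in
theorem sum_sq_bound :
    1 + sdeg ψ δ ^ 2 * 1 + (((k - 1) / 2 : ℕ) : ℤ) * (sdeg ψ δ + 1) ^ 2 ≤ (Nat.card G : ℤ) := by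
  set I := ((Finset.univ : Finset (↥A →* ℂˣ)).erase 1).image η with hI
  have h1 : (k - 1) / 2 ≤ I.card := by
    have h2 : ((Finset.univ : Finset (↥A →* ℂˣ)).erase 1).card ≤ 2 * I.card := by
      refine Finset.card_le_mul_card_image _ _ fun χ hχ => ?_
      obtain ⟨l, hl, rfl⟩ := Finset.mem_image.1 hχ
      refine (Finset.card_le_card (t := {l, l⁻¹}) fun m hm => ?_).trans Finset.card_le_two
      obtain ⟨hm1, hm2⟩ := Finset.mem_filter.1 hm
      rcases T.eta_inj S.hk H (Finset.mem_erase.1 hl).1 (Finset.mem_erase.1 hm1).1 hm2.symm with h | h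
      · simp [h]
      · simp [h]
    rw [Finset.card_erase_of_mem (Finset.mem_univ _), Finset.card_univ, ← Nat.card_eq_fintype_card,
      T.card_dual] at h2
    omega
  have hsum : ∑ χ : IrrCharacter G, (deg (χ : G → ℂ) : ℤ) ^ 2 = (Nat.card G : ℤ) := by
    have h := sum_sq_deg (G := G)
    simp only [fun χ : IrrCharacter G => char_one_eq_deg (irr_isCharacter χ.2)] at h
    exact_mod_cast h
  have hψI : ψ ∉ I := fun h => by
    obtain ⟨l, hl, e'⟩ := Finset.mem_image.1 h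
    exact H.eta_psi l (Finset.mem_erase.1 hl).1 e'
  have hoI : (oneC : IrrCharacter G) ∉ insert ψ I := by
    intro h
    rcases Finset.mem_insert.1 h with h | h
    · exact H.psi_ne h.symm
    · obtain ⟨l, hl, e'⟩ := Finset.mem_image.1 h
      exact H.eta_ne l (Finset.mem_erase.1 hl).1 e'
  rw [← hsum]
  refine le_trans ?_ (Finset.sum_le_sum_of_subset_of_nonneg
    (Finset.subset_univ (insert oneC (insert ψ I))) fun χ _ _ => sq_nonneg _)
  rw [Finset.sum_insert hoI, Finset.sum_insert hψI, deg_one', sdeg_sq ψ H.hδ]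
  have h3 : ∀ χ ∈ I, (deg (χ : G → ℂ) : ℤ) ^ 2 = (sdeg ψ δ + 1) ^ 2 := fun χ hχ => by
    obtain ⟨l, hl, rfl⟩ := Finset.mem_image.1 hχ
    have h4 := H.deg_rel (Finset.mem_erase.1 hl).1
    rcases H.hε with h5 | h5 <;> rw [h5] at h4 <;> nlinarith
  rw [Finset.sum_congr rfl h3, Finset.sum_const, nsmul_eq_mul]
  have h6 : (((k - 1) / 2 : ℕ) : ℤ) ≤ (I.card : ℤ) := by exact_mod_cast h1
  have h7 := mul_le_mul_of_nonneg_right h6 (sq_nonneg (sdeg ψ δ + 1))
  simp only [Nat.cast_one, one_pow, mul_one]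
  linarith

include S T in
theorem q_dvd_prod (H : Star A ψ δ η ε) : (q : ℤ) ∣ sdeg ψ δ ∨ (q : ℤ) ∣ sdeg ψ δ + 1 := by
  obtain ⟨y, hy⟩ := T.exists_ne S.hk3
  have hu : ¬ InA A u := T.not_inA_of_two S.hk T.u2
  have h1 := T.count_formula S.hk3 H hu hy
  rw [T.count_self S.hk hy, S.card] at h1
  have hu1 : u ≠ 1 := fun h => by have := T.u2; rw [h, orderOf_one] at this; omega
  obtain ⟨j, hj⟩ := S.card_centralizer_e hu1 (T.u2.symm ▸ S.he.two_dvd)
  set c := Nat.card (Subgroup.centralizer ({u} : Set G)) with hc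
  set X := sdeg ψ δ with hX
  set a : ℂ := (δ : ℂ) * (ψ : G → ℂ) u with ha
  have hc0 : (c : ℂ) ≠ 0 := Nat.cast_ne_zero.2 Nat.card_pos.ne'
  have hk0 : (k : ℂ) ≠ 0 := Nat.cast_ne_zero.2 (by have := S.hk3; omega)
  have hqj : ((q * j : ℕ) : ℂ) ≠ 0 := by
    refine Nat.cast_ne_zero.2 (mul_ne_zero (by have := S.q5; omega) fun h => ?_)
    rw [h, mul_zero] at hj
    have := S.e2
    omega
  rw [hj] at h1
  push_cast at h1
  have h2 : (c : ℂ) * ((X : ℂ) * ((X : ℂ) + 1)) = ((q * j : ℕ) : ℂ) * ((X : ℂ) - a) ^ 2 := by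
    refine mul_left_cancel₀ (mul_ne_zero hk0 hc0) ?_
    push_cast
    linear_combination h1
  have hint : IsIntegral ℤ (((X : ℂ) - a) ^ 2) :=
    (IsIntegral.sub (isIntegral_algebraMap (x := X))
      ((isIntegral_algebraMap (x := δ)).mul (char_isIntegral (irr_isCharacter ψ.2) u))).pow 2
  have h3 : ((X : ℂ) - a) ^ 2 = ((((c : ℤ) * (X * (X + 1)) : ℤ) : ℚ) / ((q * j : ℕ) : ℚ) : ℚ) := by
    rw [Rat.cast_div, Rat.cast_intCast, Rat.cast_natCast, eq_div_iff hqj]
    push_cast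
    push_cast at h2
    linear_combination -h2
  rw [h3] at hint
  obtain ⟨M, hM⟩ := isIntegral_rat_cast_imp hint
  rw [eq_div_iff (by exact_mod_cast (Nat.cast_ne_zero (R := ℂ)).1 hqj)] at hM
  have h4 : M * ((q * j : ℕ) : ℤ) = (c : ℤ) * (X * (X + 1)) := by exact_mod_cast hM
  have h5 : (q : ℤ) ∣ (c : ℤ) * (X * (X + 1)) := ⟨M * j, by rw [← h4]; push_cast; ring⟩
  have h6 : IsCoprime (q : ℤ) (c : ℤ) := by
    rw [Int.isCoprime_iff_nat_coprime, Int.natAbs_natCast, Int.natAbs_natCast]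
    exact Nat.Coprime.coprime_dvd_right (Dvd.intro j hj.symm)
      ((Nat.coprime_two_right.2 S.q_odd).mul_right S.coprime_q_e)
  have h7 := h6.dvd_of_dvd_mul_left h5
  have hp' : Prime (p : ℤ) := Nat.prime_iff_prime_int.1 S.hp
  have hqp : (q : ℤ) = (p : ℤ) ^ f := by rw [S.hq]; push_cast; rfl
  rw [hqp] at h7 ⊢
  by_cases hpX : (p : ℤ) ∣ X
  · refine Or.inl (IsCoprime.dvd_of_dvd_mul_right ?_ h7)
    refine (Prime.coprime_iff_not_dvd hp').2 (fun h => hp'.not_dvd_one ?_) |>.pow_left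
    simpa using dvd_sub h hpX
  · refine Or.inr (IsCoprime.dvd_of_dvd_mul_left ?_ h7)
    exact ((Prime.coprime_iff_not_dvd hp').2 hpX).pow_left

theorem int_of_dvd {q : ℕ} {x : ℤ} (h : (q : ℤ) ∣ x) (hx : x ≠ 0) :
    x = q ∨ x = -(q : ℤ) ∨ 4 * (q : ℤ) ^ 2 ≤ x ^ 2 := by
  obtain ⟨j, rfl⟩ := h
  rcases (show j = 1 ∨ j = -1 ∨ j = 0 ∨ 2 ≤ j ∨ j ≤ -2 by omega) with rfl | rfl | rfl | h | h
  · exact Or.inl (mul_one _)
  · exact Or.inr (Or.inl (by ring))
  · exact absurd (mul_zero _) hx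
  · refine Or.inr (Or.inr ?_)
    have : 4 ≤ j * j := by nlinarith
    nlinarith [sq_nonneg (q : ℤ)]
  · refine Or.inr (Or.inr ?_)
    have : 4 ≤ j * j := by nlinarith
    nlinarith [sq_nonneg (q : ℤ)]

include S T in
theorem sdeg_small (H : Star A ψ δ η ε) :
    sdeg ψ δ ^ 2 < 4 * (q : ℤ) ^ 2 ∧ (sdeg ψ δ + 1) ^ 2 < 4 * (q : ℤ) ^ 2 := by
  have h1 := sum_sq_bound S T H
  set X := sdeg ψ δ
  set d : ℕ := (k - 1) / 2
  have hd : (k : ℤ) = 2 * d + 1 := by
    obtain ⟨j, hj⟩ := S.hk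
    have : d = j := by omega
    subst this
    exact_mod_cast hj
  have hd1 : (1 : ℤ) ≤ d := by
    have := S.hk3
    have : (k : ℤ) ≥ 3 := by exact_mod_cast this
    omega
  rw [S.card] at h1
  push_cast at h1
  have hq : (5 : ℤ) ≤ q := by exact_mod_cast S.q5
  have hke : 4 * (k : ℤ) * (e : ℤ) = (q : ℤ) ^ 2 - 1 := by
    rcases S.hcase with ⟨h, h'⟩ | ⟨h, h'⟩
    · have e1 : (q : ℤ) = 2 * k + 1 := by exact_mod_cast h
      have e2 : (e : ℤ) = k + 1 := by exact_mod_cast h'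
      rw [e1, e2]; ring
    · have e1 : (q : ℤ) + 1 = 2 * k := by exact_mod_cast h
      have e2 : (e : ℤ) + 1 = k := by exact_mod_cast h'
      have e3 : (e : ℤ) = k - 1 := by linarith
      have e4 : (q : ℤ) = 2 * k - 1 := by linarith
      rw [e3, e4]; ring
  have hqk : (q : ℤ) ≤ 4 * d + 3 := by
    rcases S.hcase with ⟨h, -⟩ | ⟨h, -⟩
    · have e1 : (q : ℤ) = 2 * k + 1 := by exact_mod_cast h
      linarith
    · have e1 : (q : ℤ) + 1 = 2 * k := by exact_mod_cast h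
      linarith
  constructor <;>
  · by_contra hn
    push Not at hn
    have h2 : (2 * (q : ℤ) - 1) ^ 2 ≤ X ^ 2 ∧ (2 * (q : ℤ) - 1) ^ 2 ≤ (X + 1) ^ 2 := by
      rcases le_or_gt 0 X with h | h
      · have : 2 * (q : ℤ) ≤ X + 1 := by nlinarith
        constructor <;> nlinarith
      · have : X ≤ -(2 * (q : ℤ)) + 0 := by nlinarith
        constructor <;> nlinarith
    nlinarith

include S T in
theorem exists_good : ∃ ψ δ η ε, Good G q k A ψ δ η ε := by
  obtain ⟨ψ, δ, η, ε, H⟩ := T.exists_star S.hk S.hk3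
  obtain ⟨ψ, δ, η, ε, H, hd⟩ : ∃ ψ δ η ε, Star A ψ δ η ε ∧ (q : ℤ) ∣ sdeg ψ δ := by
    rcases q_dvd_prod S T H with h | h
    · exact ⟨ψ, δ, η, ε, H, h⟩
    have hm := T.sdeg_mod S.hk3 H
    obtain ⟨l₀, hl₀⟩ := T.exists_ne_one S.hk3
    have hX1 := H.sdeg_succ_ne T S.hk3
    have hk3 : k = 3 := by
      have hq5 := S.q5
      rcases int_of_dvd h hX1 with h2 | h2 | h2
      · rcases S.hcase with ⟨hq, -⟩ | ⟨hq, -⟩
        · have e1 : (q : ℤ) = 2 * k + 1 := by exact_mod_cast hq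
          have : (k : ℤ) ∣ 1 := by
            rw [show sdeg ψ δ - 1 = 2 * k + (-1 : ℤ) by linarith] at hm
            simpa using (Int.dvd_add_right (dvd_mul_left _ _)).1 hm
          have h1 := Int.le_of_dvd one_pos this
          have := S.hk3
          omega
        · have e1 : (q : ℤ) = 2 * k + (-1) := by
            have : (q : ℤ) + 1 = 2 * k := by exact_mod_cast hq
            linarith
          rw [show sdeg ψ δ - 1 = 2 * k + (-3 : ℤ) by linarith] at hm
          have h1 : (k : ℤ) ∣ 3 := by simpa using (Int.dvd_add_right (dvd_mul_left _ _)).1 hm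
          have := Int.le_of_dvd (by norm_num) h1
          have := S.hk3
          omega
      · rcases S.hcase with ⟨hq, -⟩ | ⟨hq, -⟩
        · have e1 : (q : ℤ) = 2 * k + 1 := by exact_mod_cast hq
          rw [show sdeg ψ δ - 1 = (-2) * k + (-3 : ℤ) by linarith] at hm
          have h1 : (k : ℤ) ∣ 3 := by simpa using (Int.dvd_add_right (dvd_mul_left _ _)).1 hm
          have := Int.le_of_dvd (by norm_num) h1
          have := S.hk3
          omega
        · have e1 : (q : ℤ) + 1 = 2 * k := by exact_mod_cast hq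
          rw [show sdeg ψ δ - 1 = (-2) * k + (-1 : ℤ) by linarith] at hm
          have : (k : ℤ) ∣ 1 := by simpa using (Int.dvd_add_right (dvd_mul_left _ _)).1 hm
          have h1 := Int.le_of_dvd one_pos this
          have := S.hk3
          omega
      · exact absurd (sdeg_small S T H).2 (not_lt.2 h2)
    have hconst : ∀ l, l ≠ 1 → η l = η l₀ := by
      intro l hl
      by_contra hne
      have h1 : ({1, l₀, l₀⁻¹, l} : Finset (↥A →* ℂˣ)).card ≤ Fintype.card (↥A →* ℂˣ) :=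
        Finset.card_le_univ _
      rw [← Nat.card_eq_fintype_card, T.card_dual, hk3] at h1
      have hl2 : l ≠ l₀⁻¹ := by
        rintro rfl
        refine hne ?_
        have h1 : ∀ χ, coef l₀⁻¹ χ = coef l₀ χ := by
          intro χ
          have h1 : ∑ χ, (coef l₀ χ - coef l₀⁻¹ χ) * (coef l₀ χ - coef l₀⁻¹ χ) = 0 := by
            simp only [sub_mul, mul_sub, Finset.sum_sub_distrib]
            rw [T.coef_inner l₀ l₀ hl₀ hl₀, T.coef_inner l₀⁻¹ l₀⁻¹ hl hl, T.coef_inner l₀ l₀⁻¹ hl₀ hl,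
              T.coef_inner l₀⁻¹ l₀ hl hl₀, hom_inv_inv]
            simp [T.hom_ne_inv S.hk hl₀, (T.hom_ne_inv S.hk hl₀).symm]
          exact (sub_eq_zero.1 (mul_self_eq_zero.1
            ((Finset.sum_eq_zero_iff_of_nonneg fun χ _ => mul_self_nonneg _).1 h1 χ (Finset.mem_univ χ)))).symm
        by_contra hne'
        have h2 := h1 (η l₀⁻¹)
        rw [H.spec _ hl, H.spec _ hl₀, if_neg (H.eta_ne _ hl), if_neg (H.eta_psi _ hl), if_pos rfl,
          if_neg hne'] at h2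
        rcases H.hε with e' | e' <;> omega
      have hl3 : l ≠ l₀ := fun h => hne (by rw [h])
      rw [Finset.card_insert_of_notMem, Finset.card_insert_of_notMem, Finset.card_pair hl2.symm] at h1
      · omega
      · simp [T.hom_ne_inv S.hk hl₀, hl3.symm]
      · simp [hl₀.symm, (hom_inv_ne_one hl₀).symm, hl.symm]
    refine ⟨η l₀, ε, fun _ => ψ, δ, ⟨H.hε, H.hδ, H.eta_ne l₀ hl₀, fun _ _ => H.psi_ne,
      fun _ _ => (H.eta_psi l₀ hl₀).symm, fun l hl χ => ?_⟩, ?_⟩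
    · rw [H.spec l hl χ, hconst l hl]; ring
    · rw [sdeg, H.deg_rel hl₀]
      exact (dvd_neg).2 h
  have hm := T.sdeg_mod S.hk3 H
  have hk := S.hk3
  refine ⟨ψ, δ, η, ε, H, ?_⟩
  rcases int_of_dvd hd H.sdeg_ne with h | h | h
  · rcases S.hcase with ⟨hq, -⟩ | ⟨hq, -⟩
    · exact Or.inl ⟨hq, h⟩
    · exfalso
      have e1 : (q : ℤ) + 1 = 2 * k := by exact_mod_cast hq
      rw [show sdeg ψ δ - 1 = 2 * k + (-2 : ℤ) by linarith] at hm
      have h1 : (k : ℤ) ∣ 2 := by simpa using (Int.dvd_add_right (dvd_mul_left _ _)).1 hm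
      have := Int.le_of_dvd (by norm_num) h1
      omega
  · rcases S.hcase with ⟨hq, -⟩ | ⟨hq, -⟩
    · exfalso
      have e1 : (q : ℤ) = 2 * k + 1 := by exact_mod_cast hq
      rw [show sdeg ψ δ - 1 = (-2) * k + (-2 : ℤ) by linarith] at hm
      have h1 : (k : ℤ) ∣ 2 := by simpa using (Int.dvd_add_right (dvd_mul_left _ _)).1 hm
      have := Int.le_of_dvd (by norm_num) h1
      omega
    · exact Or.inr ⟨hq, h⟩
  · exact absurd (sdeg_small S T H).1 (not_lt.2 h)

end Cfsg.Agent.Lead.PSLSpectrum
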