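import Cfsg.Agent.Lib.Lead.PSLSpectrum.Centralizer
import Cfsg.Agent.S3282

/-!
# The spectrum of `PSL₂(q)`, `q` odd: Brauer–Suzuki–Wall applies
-/

set_option autoImplicit false
set_option linter.unusedSectionVars false
set_option linter.style.haveILetI false

namespace Cfsg.Agent.Lead.PSLSpectrum

open Cfsg Cfsg.Agent.Char
open scoped Classical

variable {G : Type*} [Group G] [Fintype G] {p f q k e : ℕ} {t s : G} {B : Subgroup G}

/-- The involution `s` of the centralizer outside `B` inverts `B`, and odd order elements of `B`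
have centralizer `B`. -/
theorem inverts (F : Facts G p q k e) (S : Spec G p f q k e) (C : Cyc G e t B)
    (hs : orderOf s = 2) (hsC : s ∈ Subgroup.centralizer ({t} : Set G)) (hsB : s ∉ B) :
    (∀ b ∈ B, s * b * s⁻¹ = b⁻¹) ∧
      ∀ b ∈ B, b ≠ 1 → Odd (orderOf b) → Subgroup.centralizer ({b} : Set G) = B := by
  set H := Subgroup.centralizer ({t} : Set G) with hH
  have hss := conj_sq_one hs
  have hs_inv : s⁻¹ = s := inv_eq_of_mul_eq_one_right hss
  have hst : s ≠ t := fun h => hsB (h ▸ C.tB)
  have hts : t ≠ s := hst.symm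
  set I := Finset.univ.filter fun x : G => orderOf x = 2 with hI
  have hIc : I.card = q * k := F.card_invol S C.t2
  set W : G → Finset G := fun x => Finset.univ.filter fun g : G => x ∈ Subgroup.zpowers g with hW
  set Ev := (ordSet G e).filter fun g => Even (orderOf g) with hEv
  set Od := (ordSet G e).filter fun g => ¬ Even (orderOf g) with hOd
  set BE := Finset.univ.filter fun g : G => g ∈ B ∧ Even (orderOf g) with hBE
  set BO := Finset.univ.filter fun g : G => g ∈ B ∧ g ≠ 1 ∧ ¬ Even (orderOf g) with hBO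
  have hsplit : Ev.card + Od.card = (ordSet G e).card :=
    Finset.card_filter_add_card_filter_not _
  have hBcard : BE.card + BO.card + 1 = e := by
    have h1 : (Finset.univ.filter fun g : G => g ∈ B).card = e := by
      rw [← C.card, Nat.card_eq_fintype_card, Fintype.card_subtype]
    have h2 : (Finset.univ.filter fun g : G => g ∈ B) = insert 1 (BE ∪ BO) := by
      ext g
      simp only [hBE, hBO, Finset.mem_insert, Finset.mem_union, Finset.mem_filter, Finset.mem_univ,
        true_and]
      constructor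
      · intro h
        by_cases h1 : g = 1
        · exact Or.inl h1
        by_cases h2 : Even (orderOf g)
        · exact Or.inr (Or.inl ⟨h, h2⟩)
        · exact Or.inr (Or.inr ⟨h, h1, h2⟩)
      · rintro (rfl | h | h)
        · exact one_mem _
        · exact h.1
        · exact h.1
    rw [h2, Finset.card_insert_of_notMem, Finset.card_union_of_disjoint] at h1
    · exact h1
    · exact Finset.disjoint_left.2 fun g h1 h2 =>
        (Finset.mem_filter.1 h2).2.2.2 (Finset.mem_filter.1 h1).2.2
    · simp [hBE, hBO]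
  -- the even order elements
  have hWconj : ∀ c x : G, (W (c * x * c⁻¹)).card = (W x).card := by
    intro c x
    refine (Finset.card_equiv (MulAut.conj c).toEquiv fun g => ?_).symm
    simp only [hW, Finset.mem_filter, Finset.mem_univ, true_and, MulEquiv.toEquiv_eq_coe,
      MulEquiv.coe_toEquiv, MulAut.conj_apply]
    constructor
    · intro h
      obtain ⟨i, hi⟩ := Subgroup.mem_zpowers_iff.1 h
      exact Subgroup.mem_zpowers_iff.2 ⟨i, by rw [conj_zpow, hi]⟩
    · intro h
      obtain ⟨i, hi⟩ := Subgroup.mem_zpowers_iff.1 h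
      rw [conj_zpow] at hi
      exact Subgroup.mem_zpowers_iff.2 ⟨i, mul_left_cancel (mul_right_cancel hi)⟩
  have hEvW : Ev = I.biUnion W := by
    ext g
    simp only [hEv, Finset.mem_filter, Finset.mem_biUnion, hW, hI, Finset.mem_univ, true_and]
    constructor
    · rintro ⟨-, hev⟩
      exact ⟨g ^ (orderOf g / 2), orderOf_pow_orderOf_div (orderOf_pos g).ne' hev.two_dvd,
        Subgroup.pow_mem _ (Subgroup.mem_zpowers g) _⟩
    · rintro ⟨x, hx, hxg⟩
      have h2 : 2 ∣ orderOf g := by
        rw [← hx, ← Nat.card_zpowers g]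
        exact Subgroup.orderOf_dvd_natCard _ hxg
      refine ⟨Finset.mem_filter.2 ⟨Finset.mem_univ _, fun h => ?_, ?_⟩, even_iff_two_dvd.2 h2⟩
      · rw [h, orderOf_one] at h2; omega
      rcases S.hord g with h | h | h
      · exact absurd (Nat.eq_one_of_dvd_coprimes S.coprime_p_two.symm dvd_rfl (h2.trans h)) (by norm_num)
      · exact absurd (Nat.eq_one_of_dvd_coprimes S.two_coprime_k dvd_rfl (h2.trans h)) (by norm_num)
      · exact h
  have hdisj : (I : Set G).PairwiseDisjoint W := by
    intro x hx y hy hxy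
    refine Finset.disjoint_left.2 fun g h1 h2 => hxy ?_
    have hx2 : orderOf x = 2 := (Finset.mem_filter.1 hx).2
    have hy2 : orderOf y = 2 := (Finset.mem_filter.1 hy).2
    have hxg : x ∈ Subgroup.zpowers g := (Finset.mem_filter.1 h1).2
    have hyg : y ∈ Subgroup.zpowers g := (Finset.mem_filter.1 h2).2
    have h3 : 2 ∣ orderOf g := by
      rw [← hx2, ← Nat.card_zpowers g]
      exact Subgroup.orderOf_dvd_natCard _ hxg
    have key : ∀ z, z ∈ Subgroup.zpowers g → orderOf z = 2 → z = g ^ (orderOf g / 2) := by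
      intro z hz hz2
      obtain ⟨i, rfl⟩ := (mem_powers_iff_mem_zpowers (x := g)).2 hz
      obtain ⟨m, hm⟩ := h3
      have h4 : orderOf g ∣ i * 2 := orderOf_dvd_of_pow_eq_one (by
        rw [pow_mul, ← hz2]; exact pow_orderOf_eq_one _)
      rw [hm, Nat.mul_div_cancel_left _ two_pos]
      rw [hm, mul_comm 2 m] at h4
      obtain ⟨c, hc⟩ := Nat.dvd_of_mul_dvd_mul_right two_pos h4
      change g ^ i = g ^ m
      rw [← pow_mod_orderOf g i, hc, hm]
      rcases Nat.even_or_odd c with ⟨d, rfl⟩ | ⟨d, rfl⟩
      · exfalso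
        have : g ^ i = 1 := by
          rw [hc, show m * (d + d) = orderOf g * d by rw [hm]; ring, pow_mul, pow_orderOf_eq_one,
            one_pow]
        rw [show orderOf ((fun n => g ^ n) i) = orderOf (g ^ i) from rfl, this, orderOf_one] at hz2
        omega
      · congr 1
        rw [show m * (2 * d + 1) = m + 2 * m * d by ring, Nat.add_mul_mod_self_left,
          Nat.mod_eq_of_lt]
        have := orderOf_pos g
        omega
    rw [key x hxg hx2, key y hyg hy2]
  have hEvc : Ev.card = q * k * (W t).card := by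
    rw [hEvW, Finset.card_biUnion hdisj, ← hIc, Finset.sum_const_nat fun x hx => ?_]
    obtain ⟨c, rfl⟩ := isConj_iff.1 (F.invConj t x C.t2 (Finset.mem_filter.1 hx).2)
    exact hWconj c t
  have hBEW : BE ⊆ W t := fun g hg => Finset.mem_filter.2 ⟨Finset.mem_univ _,
    C.t_mem_zpowers (Finset.mem_filter.1 hg).2.1 (even_iff_two_dvd.1 (Finset.mem_filter.1 hg).2.2)⟩
  -- the odd order elements
  have hcommconj : ∀ c x g : G, (c * g * c⁻¹) * (c * x * c⁻¹) = (c * x * c⁻¹) * (c * g * c⁻¹) ↔
      g * x = x * g := by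
    intro c x g
    constructor
    · intro h
      calc g * x = c⁻¹ * (c * g * c⁻¹ * (c * x * c⁻¹)) * c := by group
        _ = c⁻¹ * (c * x * c⁻¹ * (c * g * c⁻¹)) * c := by rw [h]
        _ = x * g := by group
    · intro h
      calc c * g * c⁻¹ * (c * x * c⁻¹) = c * (g * x) * c⁻¹ := by group
        _ = c * (x * g) * c⁻¹ := by rw [h]
        _ = _ := by group
  have hOdmem : ∀ g : G, g ∈ Od ↔ g ≠ 1 ∧ orderOf g ∣ e ∧ ¬ Even (orderOf g) := fun g => by
    simp [hOd, ordSet, and_assoc]
  have hperx : ∀ x ∈ I, (Od.filter fun g => g * x = x * g).card = BO.card := by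
    intro x hx
    obtain ⟨c, rfl⟩ := isConj_iff.1 (F.invConj t x C.t2 (Finset.mem_filter.1 hx).2)
    refine (Finset.card_equiv (MulAut.conj c).toEquiv fun g => ?_).symm
    simp only [hBO, Finset.mem_filter, Finset.mem_univ, true_and, MulEquiv.toEquiv_eq_coe,
      MulEquiv.coe_toEquiv, MulAut.conj_apply, hOdmem, orderOf_conj', conj_eq_one_iff.not, hcommconj]
    constructor
    · rintro ⟨h1, h2, h3⟩
      exact ⟨⟨h2, C.card ▸ Subgroup.orderOf_dvd_natCard B h1, h3⟩, C.comm g h1 t C.tB⟩
    · rintro ⟨⟨h2, -, h3⟩, h4⟩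
      exact ⟨C.odd_mem (Subgroup.mem_centralizer_singleton_iff.2 h4) (Nat.not_even_iff_odd.1 h3), h2, h3⟩
  have hdouble : ∑ g ∈ Od, (I.filter fun x => g * x = x * g).card = q * k * BO.card := by
    have h1 : ∑ g ∈ Od, (I.filter fun x => g * x = x * g).card =
        ∑ x ∈ I, (Od.filter fun g => g * x = x * g).card := by
      simp only [Finset.card_filter]
      exact Finset.sum_comm
    rw [h1, Finset.sum_const_nat hperx, hIc]
  have hE := F.cardE
  by_cases hA : ∀ b ∈ B, b ≠ 1 → Odd (orderOf b) → Subgroup.centralizer ({b} : Set G) = B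
  · -- centralizers of odd order elements are small
    have hν : ∀ g ∈ Od, (I.filter fun x => g * x = x * g).card = 1 := by
      intro g hg
      obtain ⟨hg1, hge, hgo⟩ := (hOdmem g).1 hg
      obtain ⟨c, hc⟩ := C.conj_into S hg1 hge (Nat.not_even_iff_odd.1 hgo)
      have ha := hA _ hc (fun h => hg1 (by
        have : g = c * (c⁻¹ * g * c) * c⁻¹ := by group
        rw [this, h]; group)) (by
        rw [show c⁻¹ * g * c = c⁻¹ * g * c⁻¹⁻¹ by group, orderOf_conj']
        exact Nat.not_even_iff_odd.1 hgo)
      rw [Finset.card_eq_one]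
      refine ⟨c * t * c⁻¹, Finset.ext fun x => ?_⟩
      simp only [hI, Finset.mem_filter, Finset.mem_univ, true_and, Finset.mem_singleton]
      have hg' : g = c * (c⁻¹ * g * c) * c⁻¹ := by group
      constructor
      · rintro ⟨hx2, hx⟩
        rw [hg', show x = c * (c⁻¹ * x * c) * c⁻¹ by group, hcommconj] at hx
        have h1 : c⁻¹ * x * c ∈ B := ha ▸ Subgroup.mem_centralizer_singleton_iff.2 hx.symm
        rw [← C.uniq _ h1 (by rw [show c⁻¹ * x * c = c⁻¹ * x * c⁻¹⁻¹ by group, orderOf_conj', hx2])]
        group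
      · rintro rfl
        refine ⟨by rw [orderOf_conj', C.t2], ?_⟩
        rw [hg', hcommconj]
        exact C.comm _ hc _ C.tB
    rw [Finset.sum_congr rfl hν, Finset.sum_const, smul_eq_mul, mul_one] at hdouble
    have hWeq : BE = W t := by
      refine Finset.eq_of_subset_of_card_le hBEW ?_
      have h0 : 0 < q * k := by
        have := S.q5
        have := S.hk3
        positivity
      refine Nat.le_of_mul_le_mul_left ?_ h0
      nlinarith
    refine ⟨fun b hb => ?_, hA⟩
    set c := s * b * s⁻¹ * b with hc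
    have hcB : c ∈ B := B.mul_mem (C.conj_mem hsC hb) hb
    have hc1 : c = 1 := by
      by_contra hne
      have hodd : Odd (orderOf c) := by
        rw [← Nat.not_even_iff_odd]
        intro hev
        have h1 : t ∈ Subgroup.zpowers c := C.t_mem_zpowers hcB (even_iff_two_dvd.1 hev)
        have h2 : c = (s * b) ^ 2 := by rw [hc, hs_inv, sq]; simp [mul_assoc]
        have h3 : s * b ∈ W t := Finset.mem_filter.2 ⟨Finset.mem_univ _, by
          refine Subgroup.zpowers_le.2 ?_ h1
          rw [h2]
          exact Subgroup.pow_mem _ (Subgroup.mem_zpowers _) 2⟩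
        rw [← hWeq] at h3
        exact hsB (by simpa using B.mul_mem (Finset.mem_filter.1 h3).2.1 (B.inv_mem hb))
      refine hsB (hA c hcB hne hodd ▸ Subgroup.mem_centralizer_singleton_iff.2 ?_)
      calc s * c = s * (s * b * s⁻¹ * b) := rfl
        _ = b * (s * b) := by rw [hs_inv]; simp [mul_assoc, ← mul_assoc s s, hss]
        _ = b * (s * b * s⁻¹) * s := by rw [hs_inv]; simp [mul_assoc, hss]
        _ = c * s := by rw [C.comm b hb _ (C.conj_mem hsC hb)]
    exact eq_inv_of_mul_eq_one_left hc1
  · -- an abelian centralizer is impossible unless `e = 2`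
    exfalso
    push Not at hA
    obtain ⟨a, haB, ha1, hao, hane⟩ := hA
    have haC := (C.cent_le S haB ha1).resolve_left hane
    -- `s` is central in the centralizer of `t`
    obtain ⟨g, hg⟩ := isConj_iff.1 (F.invConj t s C.t2 hs)
    have has : a * s = s * a := by
      have : s ∈ Subgroup.centralizer ({a} : Set G) := haC ▸ hsC
      exact (Subgroup.mem_centralizer_singleton_iff.1 this).symm
    have hag : g⁻¹ * a * g ∈ B := by
      refine C.odd_mem (Subgroup.mem_centralizer_singleton_iff.2 ?_) ?_
      · rw [← hcommconj g, show g * (g⁻¹ * a * g) * g⁻¹ = a by group, hg]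
        exact has
      · rw [show g⁻¹ * a * g = g⁻¹ * a * g⁻¹⁻¹ by group, orderOf_conj']; exact hao
    have hscent : ∀ w ∈ H, w * s = s * w := by
      intro w hw
      have h1 : g⁻¹ * w * g ∈ Subgroup.centralizer ({g⁻¹ * a * g} : Set G) := by
        rw [Subgroup.mem_centralizer_singleton_iff, ← hcommconj g,
          show g * (g⁻¹ * a * g) * g⁻¹ = a by group, show g * (g⁻¹ * w * g) * g⁻¹ = w by group]
        exact Subgroup.mem_centralizer_singleton_iff.1 (haC.symm ▸ hw)
      have h2 := C.cent_le_t S hag (fun h => ha1 (by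
        have : a = g * (g⁻¹ * a * g) * g⁻¹ := by group
        rw [this, h]; group)) h1
      rw [Subgroup.mem_centralizer_singleton_iff, ← hcommconj g,
        show g * (g⁻¹ * w * g) * g⁻¹ = w by group, hg] at h2
      exact h2
    -- no element of order four in `B`
    have hno4 : ∀ b ∈ B, orderOf b ≠ 4 := by
      intro b hb h4
      have hb2 : orderOf (b ^ 2) = 2 := by
        rw [orderOf_pow' b two_ne_zero, h4]; norm_num
      have hbt : b ^ 2 = t := C.uniq _ (B.pow_mem hb 2) hb2
      have h1 : g⁻¹ * b * g ∈ H := by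
        rw [Subgroup.mem_centralizer_singleton_iff, ← hcommconj g,
          show g * (g⁻¹ * b * g) * g⁻¹ = b by group, hg]
        exact hscent b (C.le hb)
      have h2 := C.sq_mem h1
      have h3 : (g⁻¹ * b * g) ^ 2 = g⁻¹ * b ^ 2 * g := by rw [sq, sq]; group
      rw [h3] at h2
      have h4' := C.uniq _ h2 (by
        rw [show g⁻¹ * b ^ 2 * g = g⁻¹ * b ^ 2 * g⁻¹⁻¹ by group, orderOf_conj', hb2])
      rw [hbt] at h4'
      refine hts ?_
      calc t = g * (g⁻¹ * t * g) * g⁻¹ := by group
        _ = g * t * g⁻¹ := by rw [h4']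
        _ = s := hg
    have hsqodd : ∀ b ∈ B, Odd (orderOf (b ^ 2)) := by
      intro b hb
      rw [← Nat.not_even_iff_odd]
      intro hev
      have hb2 : 4 ∣ orderOf b := by
        have h := hev.two_dvd
        rw [orderOf_pow' b two_ne_zero] at h
        rcases Nat.even_or_odd (orderOf b) with ho | ho
        · rw [Nat.gcd_eq_right ho.two_dvd] at h
          obtain ⟨m, hm⟩ := ho.two_dvd
          obtain ⟨d, hd⟩ := h
          rw [hm, Nat.mul_div_cancel_left _ two_pos] at hd
          exact ⟨d, by omega⟩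
        · have h2 : Nat.gcd (orderOf b) 2 = 1 := Nat.coprime_two_right.2 ho
          rw [h2, Nat.div_one] at h
          exact absurd h ho.not_two_dvd_nat
      exact hno4 (b ^ (orderOf b / 4)) (B.pow_mem hb _)
        (orderOf_pow_orderOf_div (orderOf_pos b).ne' hb2)
    have hWeq : BE = W t := by
      refine Finset.Subset.antisymm hBEW fun w hw => ?_
      have htw : t ∈ Subgroup.zpowers w := (Finset.mem_filter.1 hw).2
      have hwH : w ∈ H := by
        obtain ⟨i, hi⟩ := Subgroup.mem_zpowers_iff.1 htw
        rw [hH, Subgroup.mem_centralizer_singleton_iff, ← hi]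
        exact ((Commute.refl w).zpow_right i).eq
      rcases C.mem_or hsC hsB hwH with hwB | hwB
      · refine Finset.mem_filter.2 ⟨Finset.mem_univ _, hwB, ?_⟩
        have : orderOf t ∣ Nat.card (Subgroup.zpowers w) := Subgroup.orderOf_dvd_natCard _ htw
        rw [C.t2, Nat.card_zpowers] at this
        exact even_iff_two_dvd.2 this
      · exfalso
        set b := s⁻¹ * w with hb
        have hsb : Commute s b := (hscent b (C.le hwB)).symm
        have hw' : w = s * b := by rw [hb]; group
        obtain ⟨i, hi⟩ := (mem_powers_iff_mem_zpowers (x := w)).2 htw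
        change w ^ i = t at hi
        rw [hw', hsb.mul_pow] at hi
        rcases Nat.even_or_odd i with ⟨j, rfl⟩ | ⟨j, rfl⟩
        · rw [← two_mul, pow_mul, sq, hss, one_pow, one_mul, pow_mul] at hi
          have h1 : orderOf t ∣ orderOf (b ^ 2) := hi ▸ orderOf_pow_dvd j
          rw [C.t2] at h1
          exact (hsqodd b hwB).not_two_dvd_nat h1
        · rw [pow_succ s, pow_mul, sq, hss, one_pow, one_mul] at hi
          refine hsB ?_
          rw [show s = t * (b ^ (2 * j + 1))⁻¹ by rw [← hi]; group]
          exact B.mul_mem C.tB (B.inv_mem (B.pow_mem hwB _))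
    have hinvs : ∀ x ∈ H, orderOf x = 2 → x = t ∨ x = s ∨ x = s * t := by
      intro x hx hx2
      rcases C.mem_or hsC hsB hx with hxB | hxB
      · exact Or.inl (C.uniq x hxB hx2)
      · set b := s⁻¹ * x with hb
        have hsb : Commute s b := (hscent b (C.le hxB)).symm
        have hx' : x = s * b := by rw [hb]; group
        have h1 : b ^ 2 = 1 := by
          calc b ^ 2 = s ^ 2 * b ^ 2 := by rw [sq s, hss, one_mul]
            _ = x ^ 2 := by rw [hx', hsb.mul_pow]
            _ = 1 := by rw [← hx2, pow_orderOf_eq_one]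
        rcases (Nat.dvd_prime Nat.prime_two).1 (orderOf_dvd_of_pow_eq_one h1) with h | h
        · exact Or.inr (Or.inl (by rw [hx', orderOf_eq_one_iff.1 h, mul_one]))
        · exact Or.inr (Or.inr (by rw [hx', C.uniq b hxB h]))
    have hst2 : orderOf (s * t) = 2 := by
      refine orderOf_eq_prime ?_ ?_
      · rw [(hscent t (C.le C.tB)).symm |> (fun h => (h : Commute s t).mul_pow 2), sq, sq, hss,
          conj_sq_one C.t2, one_mul]
      · intro h
        exact hsB (eq_inv_of_mul_eq_one_left h ▸ B.inv_mem C.tB)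
    have hBabel : ∀ b ∈ B, b ≠ 1 → Odd (orderOf b) →
        Subgroup.centralizer ({b} : Set G) = H := by
      intro b hb hb1 _
      refine (C.cent_le S hb hb1).resolve_left fun h => hsB (h ▸ ?_)
      exact Subgroup.mem_centralizer_singleton_iff.2 (hscent b (C.le hb)).symm
    have hν : ∀ z ∈ Od, (I.filter fun x => z * x = x * z).card = 3 := by
      intro z hz
      obtain ⟨hz1, hze, hzo⟩ := (hOdmem z).1 hz
      obtain ⟨c, hc⟩ := C.conj_into S hz1 hze (Nat.not_even_iff_odd.1 hzo)
      have ha' := hBabel _ hc (fun h => hz1 (by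
        have : z = c * (c⁻¹ * z * c) * c⁻¹ := by group
        rw [this, h]; group)) (by
        rw [show c⁻¹ * z * c = c⁻¹ * z * c⁻¹⁻¹ by group, orderOf_conj']
        exact Nat.not_even_iff_odd.1 hzo)
      have hcard : ({t, s, s * t} : Finset G).card = 3 := by
        rw [Finset.card_insert_of_notMem, Finset.card_insert_of_notMem, Finset.card_singleton]
        · simp only [Finset.mem_singleton]
          intro h
          have : t = 1 := left_eq_mul.1 h
          exact absurd C.t2 (by rw [this, orderOf_one]; norm_num)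
        · simp only [Finset.mem_insert, Finset.mem_singleton, not_or]
          refine ⟨hts, fun h => ?_⟩
          have : s = 1 := right_eq_mul.1 h
          exact absurd hs (by rw [this, orderOf_one]; norm_num)
      rw [← hcard]
      refine Finset.card_equiv (MulAut.conj c⁻¹).toEquiv fun x => ?_
      have hz' : z = c * (c⁻¹ * z * c) * c⁻¹ := by group
      simp only [hI, Finset.mem_filter, Finset.mem_univ, true_and, MulEquiv.toEquiv_eq_coe,
        MulEquiv.coe_toEquiv, MulAut.conj_apply, inv_inv, Finset.mem_insert, Finset.mem_singleton]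
      have hx' : x = c * (c⁻¹ * x * c) * c⁻¹ := by group
      constructor
      · rintro ⟨hx2, hx⟩
        rw [hz', hx', hcommconj] at hx
        refine hinvs _ ?_ (by rw [show c⁻¹ * x * c = c⁻¹ * x * c⁻¹⁻¹ by group, orderOf_conj', hx2])
        rw [← ha']
        exact Subgroup.mem_centralizer_singleton_iff.2 hx.symm
      · intro h
        have hmem : c⁻¹ * x * c ∈ H ∧ orderOf (c⁻¹ * x * c) = 2 := by
          rcases h with h | h | h <;> rw [h]
          · exact ⟨C.le C.tB, C.t2⟩
          · exact ⟨hsC, hs⟩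
          · exact ⟨mul_mem hsC (C.le C.tB), hst2⟩
        refine ⟨by rw [hx', orderOf_conj', hmem.2], ?_⟩
        rw [hz', hx', hcommconj]
        exact (Subgroup.mem_centralizer_singleton_iff.1 (ha'.symm ▸ hmem.1)).symm
    rw [Finset.sum_congr rfl hν, Finset.sum_const, smul_eq_mul] at hdouble
    rw [← hWeq] at hEvc
    have hBO0 : 0 < BO.card := Finset.card_pos.2 ⟨a, Finset.mem_filter.2
      ⟨Finset.mem_univ _, haB, ha1, Nat.not_even_iff_odd.2 hao⟩⟩
    have h0 : 0 < q * k := by
      have := S.q5
      have := S.hk3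
      positivity
    nlinarith

/-- The subgroup `Q` given by Brauer–Suzuki–Wall. -/
theorem exists_kernel (F : Facts G p q k e) (S : Spec G p f q k e) :
    ∃ Q D : Subgroup G, Nat.card Q = q ∧ (∀ x ∈ Q, x ≠ 1 → Subgroup.centralizer ({x} : Set G) = Q) ∧
      2 * Nat.card D + 1 = q ∧ Q ⊓ D = ⊥ ∧ Subgroup.normalizer (Q : Set G) = Q ⊔ D := by
  obtain ⟨t, B, C⟩ := F.exists_cyc S
  obtain ⟨s, hs, hsC, hsB⟩ := exists_second F S C
  obtain ⟨hinv, hcentO⟩ := inverts F S C hs hsC hsB
  have hab : IsMulCommutative B := ⟨⟨fun a b => Subtype.ext (C.comm a a.2 b b.2)⟩⟩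
  have hfix : B ⊓ Subgroup.centralizer ({s} : Set G) = Subgroup.zpowers t := by
    refine le_antisymm (fun b hb => ?_) ?_
    · obtain ⟨hbB, hbs⟩ := Subgroup.mem_inf.1 hb
      have h1 := hinv b hbB
      rw [← Subgroup.mem_centralizer_singleton_iff.1 hbs, mul_inv_cancel_right] at h1
      have h2 : b ^ 2 = 1 := by
        calc b ^ 2 = b * b := sq b
          _ = b * b⁻¹ := by rw [← h1]
          _ = 1 := mul_inv_cancel b
      rcases (Nat.dvd_prime Nat.prime_two).1 (orderOf_dvd_of_pow_eq_one h2) with h | h
      · rw [orderOf_eq_one_iff.1 h]; exact one_mem _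
      · rw [C.uniq b hbB h]; exact Subgroup.mem_zpowers t
    · rw [Subgroup.zpowers_le]
      exact Subgroup.mem_inf.2 ⟨C.tB, Subgroup.mem_centralizer_singleton_iff.2
        (Subgroup.mem_centralizer_singleton_iff.1 hsC).symm⟩
  have hsup : B ⊔ Subgroup.zpowers s = Subgroup.centralizer ({t} : Set G) := by
    refine le_antisymm (sup_le C.le (Subgroup.zpowers_le.2 hsC)) fun w hw => ?_
    rcases C.mem_or hsC hsB hw with h | h
    · exact Subgroup.mem_sup_left h
    · rw [show w = s * (s⁻¹ * w) by group]
      exact mul_mem (Subgroup.mem_sup_right (Subgroup.mem_zpowers s)) (Subgroup.mem_sup_left h)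
  have hTI : ∀ g : G, g ∉ Subgroup.centralizer ({t} : Set G) →
      B ⊓ B.map (MulAut.conj g).toMonoidHom = ⊥ := by
    intro g hg
    rw [Subgroup.eq_bot_iff_forall]
    intro b hb
    obtain ⟨hbB, a, ha, hab'⟩ := Subgroup.mem_inf.1 hb
    simp only [MulEquiv.coe_toMonoidHom, MulAut.conj_apply] at hab'
    by_contra hb1
    have hmem : g * t * g⁻¹ ∈ B := by
      rcases Nat.even_or_odd (orderOf b) with hev | hodd
      · have ha2 : 2 ∣ orderOf a := by
          rw [← orderOf_conj' g a, hab']; exact hev.two_dvd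
        have h1 : orderOf (a ^ (orderOf a / 2)) = 2 := orderOf_pow_orderOf_div (orderOf_pos a).ne' ha2
        rw [← C.uniq _ (B.pow_mem ha _) h1, ← conj_pow, hab']
        exact B.pow_mem hbB _
      · rw [← hcentO b hbB hb1 hodd, Subgroup.mem_centralizer_singleton_iff, ← hab']
        calc g * t * g⁻¹ * (g * a * g⁻¹) = g * (t * a) * g⁻¹ := by group
          _ = g * (a * t) * g⁻¹ := by rw [C.comm t C.tB a ha]
          _ = _ := by group
    exact hg (Subgroup.mem_centralizer_singleton_iff.2
      (mul_inv_eq_iff_eq_mul.1 (C.uniq _ hmem (by rw [orderOf_conj', C.t2]))))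
  obtain ⟨Q, D, hcard, hcent, -, hDc, hdisj, hN, -⟩ :=
    Cfsg.Agent.S3282.result t C.t2 B hab C.le C.tB s hs hsC hsB hsup hfix hinv hTI F.invConj
  refine ⟨Q, D, ?_, hcent, ?_, hdisj, hN⟩
  all_goals
    have hq2 := four_ek S
    have hQ : Nat.card Q = q := by
      rw [S.card] at hcard
      set x := Nat.card Q
      have hx : 0 < x := Nat.card_pos
      have h1 : x * (x + 1) * (x - 1) + x = x ^ 3 := by
        obtain ⟨y, hy⟩ := Nat.exists_eq_add_of_le (show 1 ≤ x from hx)
        rw [hy, Nat.add_sub_cancel_left]; ring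
      have h2 : 2 * (q * k * (2 * e)) + q = q ^ 3 := by rw [pow_succ, ← hq2]; ring
      rw [← hcard] at h1
      rcases lt_trichotomy x q with h | h | h
      · have := Nat.pow_lt_pow_left h (show 3 ≠ 0 by norm_num)
        nlinarith [Nat.pow_lt_pow_left h (show 2 ≠ 0 by norm_num)]
      · exact h
      · have := Nat.pow_lt_pow_left h (show 3 ≠ 0 by norm_num)
        nlinarith [Nat.pow_lt_pow_left h (show 2 ≠ 0 by norm_num)]
  · exact hQ
  · rw [hDc, hQ]

end Cfsg.Agent.Lead.PSLSpectrum
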