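import Cfsg.Agent.Lib.Lead.PSLSpectrum.Numbers

/-!
# The spectrum of `PSL₂(q)`, `q` odd: involutions and elements of order `p`
-/

set_option autoImplicit false
set_option linter.unusedSectionVars false
set_option linter.style.haveILetI false

namespace Cfsg.Agent.Lead.PSLSpectrum

open Cfsg Cfsg.Agent.Char
open Cfsg.Agent.Char.BSW (diffFun phi mult coef oneC linC lin_orth)
open scoped ComplexConjugate Classical

variable {G : Type*} [Group G] [Fintype G] {p f q k e : ℕ} {A : Subgroup G} {u : G}

/-- What the character theory yields about the group. -/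
structure Facts (G : Type*) [Group G] [Fintype G] (p q k e : ℕ) : Prop where
  invConj : ∀ x y : G, orderOf x = 2 → orderOf y = 2 → IsConj x y
  centTwo : ∀ x : G, orderOf x = 2 → Nat.card (Subgroup.centralizer ({x} : Set G)) = 2 * e
  centP : ∀ x : G, orderOf x = p → Nat.card (Subgroup.centralizer ({x} : Set G)) = q
  cardP : (pSet G p).card = 4 * e * k
  cardE : (ordSet G e).card + q * k = q * k * e
  cardK : (ordSet G k).card + q * e = q * e * k

theorem sum_conjClass_le {g : G} {D : Finset G} (hD : ∀ x, IsConj g x → x ∈ D) :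
    Nat.card {x : G // IsConj g x} ≤ D.card := by
  rw [Nat.card_eq_fintype_card, Fintype.card_subtype]
  exact Finset.card_le_card fun x hx => hD x (Finset.mem_filter.1 hx).2

theorem mem_normalizer_of_cent {U : Subgroup G} {g w : G}
    (h1 : Subgroup.centralizer ({w} : Set G) = U)
    (h2 : Subgroup.centralizer ({g * w * g⁻¹} : Set G) = U) :
    g ∈ Subgroup.normalizer (U : Set G) := by
  rw [Subgroup.mem_normalizer_iff]
  intro b
  conv_lhs => rw [← h1, Subgroup.mem_centralizer_singleton_iff]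
  conv_rhs => rw [← h2, Subgroup.mem_centralizer_singleton_iff]
  constructor
  · intro h
    calc g * b * g⁻¹ * (g * w * g⁻¹) = g * (b * w) * g⁻¹ := by group
      _ = g * (w * b) * g⁻¹ := by rw [h]
      _ = g * w * g⁻¹ * (g * b * g⁻¹) := by group
  · intro h
    calc b * w = g⁻¹ * (g * b * g⁻¹ * (g * w * g⁻¹)) * g := by group
      _ = g⁻¹ * (g * w * g⁻¹ * (g * b * g⁻¹)) * g := by rw [h]
      _ = w * b := by group

variable (S : Spec G p f q k e)
include S

theorem centP_of_le (hle : (pSet G p).card ≤ 4 * e * k) {x : G} (hx : orderOf x = p) :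
    Nat.card (Subgroup.centralizer ({x} : Set G)) = q := by
  set c := Nat.card (Subgroup.centralizer ({x} : Set G)) with hc
  have hdvd : c ∣ p ^ f := S.hq ▸ S.card_centralizer_p hx
  obtain ⟨i, hi, hci⟩ := (Nat.dvd_prime_pow S.hp).1 hdvd
  rcases hi.lt_or_eq with hi | hi
  · exfalso
    have h1 := sum_conjClass_le (g := x) (D := pSet G p) fun y hy =>
      Finset.mem_filter.2 ⟨Finset.mem_univ _, by
        obtain ⟨b, rfl⟩ := isConj_iff.1 hy
        rw [show b * x * b⁻¹ = MulAut.conj b x from rfl, MulEquiv.orderOf_eq, hx]⟩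
    have h2 := card_conjClass_mul_centralizer x
    rw [← hc, hci, S.card] at h2
    have hp3 : 3 ≤ p := by
      have := S.hp.two_le
      have := S.hp2
      omega
    have hpi : p ^ i * p ≤ q := by
      rw [← pow_succ, S.hq]
      exact Nat.pow_le_pow_right S.hp.pos hi
    have hi0 : 0 < p ^ i := pow_pos S.hp.pos i
    have hpos : 0 < k * (2 * e) := by
      have := S.hk3
      have := S.e2
      positivity
    set n := Nat.card {y : G // IsConj x y}
    have : p ^ i * p * (k * (2 * e)) ≤ n * p ^ i := by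
      rw [h2, mul_assoc q k]
      exact Nat.mul_le_mul_right _ hpi
    have : p * (k * (2 * e)) ≤ n := Nat.le_of_mul_le_mul_left
      (by rw [← mul_assoc, mul_comm _ n]; exact this) hi0
    have : 3 * (k * (2 * e)) ≤ p * (k * (2 * e)) := Nat.mul_le_mul_right _ hp3
    nlinarith
  · rw [hci, hi, S.hq]

theorem two_p_classes (hC : ∀ x : G, orderOf x = p → Nat.card (Subgroup.centralizer ({x} : Set G)) = q) :
    4 * e * k ≤ (pSet G p).card := by
  haveI : Fact p.Prime := ⟨S.hp⟩
  obtain ⟨U⟩ := (inferInstance : Nonempty (Sylow p G))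
  have hUc : Nat.card (U : Subgroup G) = q := by
    rw [U.card_eq_multiplicity]; exact factorization_card S
  haveI : Nontrivial (U : Subgroup G) := by
    rw [← Finite.one_lt_card_iff_nontrivial, hUc]
    have := S.q5
    omega
  haveI := U.isPGroup'.center_nontrivial
  obtain ⟨⟨⟨z, hzU⟩, hzc⟩, hz1⟩ := exists_ne (1 : Subgroup.center (U : Subgroup G))
  have hz1' : z ≠ 1 := fun h => hz1 (Subtype.ext (Subtype.ext h))
  have hordU : ∀ w ∈ (U : Subgroup G), w ≠ 1 → orderOf w = p := by
    intro w hw hw1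
    have h1 : orderOf w ∣ q := hUc ▸ Subgroup.orderOf_dvd_natCard _ hw
    rcases S.kind hw1 with h | h | h
    · exact h
    · exact absurd (orderOf_eq_one_iff.1 (Nat.eq_one_of_dvd_coprimes S.coprime_q_k h1 h)) hw1
    · exact absurd (orderOf_eq_one_iff.1 (Nat.eq_one_of_dvd_coprimes S.coprime_q_e h1 h)) hw1
  have hzp := hordU z hzU hz1'
  have hcz : Subgroup.centralizer ({z} : Set G) = U := by
    refine (Subgroup.eq_of_le_of_card_ge (fun b hb => Subgroup.mem_centralizer_singleton_iff.2
      (congrArg Subtype.val (Subgroup.mem_center_iff.1 hzc ⟨b, hb⟩))) ?_).symm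
    rw [hC z hzp, hUc]
  by_contra hlt
  push Not at hlt
  have hclass : ∀ x : G, orderOf x = p → Nat.card {y : G // IsConj x y} = 2 * e * k :=
    fun x hx => index_centralizer_eq S (hC x hx)
  have hsub : ∀ x : G, orderOf x = p → (Finset.univ.filter fun y => IsConj x y) ⊆ pSet G p := by
    intro x hx y hy
    obtain ⟨b, rfl⟩ := isConj_iff.1 (Finset.mem_filter.1 hy).2
    exact Finset.mem_filter.2 ⟨Finset.mem_univ _, by
      rw [show b * x * b⁻¹ = MulAut.conj b x from rfl, MulEquiv.orderOf_eq, hx]⟩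
  have hall : ∀ w : G, orderOf w = p → IsConj z w := by
    intro w hw
    by_contra hn
    have hd : Disjoint (Finset.univ.filter fun y => IsConj z y)
        (Finset.univ.filter fun y => IsConj w y) :=
      Finset.disjoint_left.2 fun y h1 h2 =>
        hn ((Finset.mem_filter.1 h1).2.trans (Finset.mem_filter.1 h2).2.symm)
    have h := Finset.card_le_card (Finset.union_subset (hsub z hzp) (hsub w hw))
    rw [Finset.card_union_of_disjoint hd, ← Fintype.card_subtype, ← Fintype.card_subtype,
      ← Nat.card_eq_fintype_card, ← Nat.card_eq_fintype_card, hclass z hzp, hclass w hw] at h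
    linarith
  -- an involution inverting `U`
  obtain ⟨g, hg⟩ := isConj_iff.1 (hall z⁻¹ (by rw [orderOf_inv, hzp]))
  set N := Subgroup.normalizer ((U : Subgroup G) : Set G) with hN
  have hgN : g ∈ N := by
    refine mem_normalizer_of_cent hcz ?_
    rw [hg, ← hcz]
    ext b
    simp only [Subgroup.mem_centralizer_singleton_iff]
    exact ⟨fun h => by simpa using (Commute.inv_right (h : Commute b z⁻¹)).eq,
      fun h => (Commute.inv_right (h : Commute b z)).eq⟩
  have heven : 2 ∣ Nat.card N := by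
    by_contra hodd
    have hog : ¬ 2 ∣ orderOf g := fun h => hodd (h.trans (Subgroup.orderOf_dvd_natCard N hgN))
    obtain ⟨j, hj⟩ : Odd (orderOf g) := Nat.odd_iff.2 (by omega)
    have h2 : g ^ 2 * z * (g ^ 2)⁻¹ = z := by
      calc g ^ 2 * z * (g ^ 2)⁻¹ = g * (g * z * g⁻¹) * g⁻¹ := by rw [sq]; group
        _ = g * z⁻¹ * g⁻¹ := by rw [hg]
        _ = (g * z * g⁻¹)⁻¹ := by group
        _ = z := by rw [hg, inv_inv]
    have hc2 : Commute (g ^ 2) z := mul_inv_eq_iff_eq_mul.1 h2
    have hgc : Commute g z := by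
      have : (g ^ 2) ^ (j + 1) = g := by
        rw [← pow_mul, show 2 * (j + 1) = orderOf g + 1 by omega, pow_succ, pow_orderOf_eq_one, one_mul]
      rw [← this]
      exact hc2.pow_left _
    rw [hgc.eq, mul_inv_cancel_right] at hg
    have h3 : z ^ 2 = 1 := by
      calc z ^ 2 = z * z := sq z
        _ = z * z⁻¹ := by rw [← hg]
        _ = 1 := mul_inv_cancel z
    have h4 := orderOf_dvd_of_pow_eq_one h3
    rw [hzp, Nat.prime_dvd_prime_iff_eq S.hp Nat.prime_two] at h4
    exact S.hp2 h4
  haveI : Fact (Nat.Prime 2) := ⟨Nat.prime_two⟩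
  obtain ⟨t, ht⟩ := exists_prime_orderOf_dvd_card' (G := N) 2 heven
  rw [← Subgroup.orderOf_coe] at ht
  have hinv := Cfsg.Agent.Char.inverts_of_fpf (R := (U : Subgroup G)) (t := (t : G))
    (by rw [← sq, ← ht, pow_orderOf_eq_one]) t.2 fun r hr hc => by
      by_contra hr1
      obtain ⟨h3, h4⟩ := S.orderOf_mul_dvd (x := r) (y := (t : G)) hc.symm
        (r := p) (hordU r hr hr1).symm.dvd ht (by rw [hordU r hr hr1]; exact S.coprime_p_two)
      exact S.not_mixed S.hp.ne_one (by norm_num) h3 h4
        (Or.inr (Or.inl ⟨dvd_rfl, dvd_mul_right 2 e⟩))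
  have hab : ∀ a ∈ (U : Subgroup G), ∀ b ∈ (U : Subgroup G), a * b = b * a := by
    intro a ha b hb
    have h1 := hinv (a * b) (mul_mem ha hb)
    have h2 : (t : G) * (a * b) * (t : G)⁻¹ = a⁻¹ * b⁻¹ := by
      rw [← hinv a ha, ← hinv b hb]; group
    rw [h2, mul_inv_rev] at h1
    calc a * b = (b⁻¹ * a⁻¹)⁻¹ := by group
      _ = (a⁻¹ * b⁻¹)⁻¹ := by rw [h1]
      _ = b * a := by group
  have hcentU : ∀ w ∈ (U : Subgroup G), w ≠ 1 →
      Subgroup.centralizer ({w} : Set G) = U := fun w hw hw1 => by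
    refine (Subgroup.eq_of_le_of_card_ge (fun b hb =>
      Subgroup.mem_centralizer_singleton_iff.2 (hab b hb w hw)) ?_).symm
    rw [hC w (hordU w hw hw1), hUc]
  -- the normalizer is transitive on the non-trivial elements
  have hUN : (U : Subgroup G) ≤ N := Subgroup.le_normalizer
  have hcardN : Nat.card N = q * (q - 1) := by
    set V := (Finset.univ.filter fun w : G => w ∈ (U : Subgroup G)).erase 1 with hV
    have hVc : V.card = q - 1 := by
      rw [hV, Finset.card_erase_of_mem (Finset.mem_filter.2 ⟨Finset.mem_univ _, one_mem _⟩),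
        ← Fintype.card_subtype, ← Nat.card_eq_fintype_card, hUc]
    have hNf : (Finset.univ.filter fun n : G => n ∈ N).card = Nat.card N := by
      rw [Nat.card_eq_fintype_card, Fintype.card_subtype]
    rw [← hNf, Finset.card_eq_sum_card_fiberwise (f := fun n => n * z * n⁻¹) (t := V) ?_,
      Finset.sum_const_nat (m := q) ?_, hVc, mul_comm]
    · intro w hw
      obtain ⟨hw1, hwf⟩ := Finset.mem_erase.1 hw
      have hwU := (Finset.mem_filter.1 hwf).2
      obtain ⟨c, hc⟩ := isConj_iff.1 (hall w (hordU w hwU hw1))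
      have hcN : c ∈ N := mem_normalizer_of_cent hcz (by rw [hc]; exact hcentU w hwU hw1)
      conv_rhs => rw [← hUc, Nat.card_eq_fintype_card, Fintype.card_subtype]
      refine (Finset.card_equiv (Equiv.mulLeft c) fun b => ?_).symm
      simp only [Finset.mem_filter, Finset.mem_univ, true_and, Equiv.coe_mulLeft]
      constructor
      · intro hb
        refine ⟨mul_mem hcN (hUN hb), ?_⟩
        calc c * b * z * (c * b)⁻¹ = c * (b * z) * b⁻¹ * c⁻¹ := by group
          _ = c * (z * b) * b⁻¹ * c⁻¹ := by rw [hab b hb z hzU]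
          _ = c * z * c⁻¹ := by group
          _ = w := hc
      · rintro ⟨-, h⟩
        rw [← hcz, Subgroup.mem_centralizer_singleton_iff]
        calc b * z = c⁻¹ * (c * b * z * (c * b)⁻¹) * c * b := by group
          _ = c⁻¹ * (c * z * c⁻¹) * c * b := by rw [h, hc]
          _ = z * b := by group
    · intro n hn
      refine Finset.mem_erase.2 ⟨fun h => hz1' (conj_eq_one_iff.1 h), Finset.mem_filter.2
        ⟨Finset.mem_univ _, ?_⟩⟩
      exact (Subgroup.mem_normalizer_iff.1 (Finset.mem_filter.1 hn).2 z).1 hzU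
  have hidx := N.card_mul_index
  rw [hcardN, S.card] at hidx
  have h1 : Nat.card (Sylow p G) = N.index := U.card_eq_index_normalizer
  have h2 := card_sylow_modEq_one p G
  rw [h1] at h2
  have hq1 : 4 * e * k + 1 = q ^ 2 := four_ek S
  have hq5 := S.q5
  obtain ⟨r, rfl⟩ := Nat.exists_eq_add_of_le (show 1 ≤ q by omega)
  rw [Nat.add_sub_cancel_left] at hidx
  have hn : 2 * N.index = r + 2 := by
    have h3 : r * N.index = 2 * e * k := Nat.eq_of_mul_eq_mul_left (show 0 < 1 + r by omega) (by linarith)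
    have h4 : r * (2 * N.index) = r * (r + 2) := by nlinarith
    exact Nat.eq_of_mul_eq_mul_left (by omega) h4
  have h5 : 2 * N.index ≡ 2 [MOD p] := by simpa using h2.mul_left 2
  rw [hn] at h5
  have h6 : r + 1 ≡ 1 [MOD p] := Nat.ModEq.add_right_cancel' 1 h5
  have h7 : r + 1 ≡ 0 [MOD p] := Nat.modEq_zero_iff_dvd.2 (by rw [add_comm]; exact S.p_dvd_q)
  exact S.hp.ne_one (Nat.dvd_one.1 (Nat.modEq_zero_iff_dvd.1 (h6.symm.trans h7)))

theorem facts : Facts G p q k e := by
  obtain ⟨A, u, T⟩ := S.exists_torus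
  obtain ⟨ψ, δ, η, ε, H⟩ := exists_good S T
  obtain ⟨l₀, hl₀⟩ := T.exists_ne_one S.hk3
  have hnc := norm_count S T H hl₀
  have hnn : ∀ g ∈ ordSet G e, (0 : ℝ) ≤ Complex.normSq ((η l₀ : G → ℂ) g) :=
    fun g _ => Complex.normSq_nonneg _
  have hle : (pSet G p).card ≤ 4 * e * k := by
    have h1 := Finset.sum_nonneg hnn
    have h2 : ((pSet G p).card : ℝ) ≤ ((4 * e * k : ℕ) : ℝ) := by push_cast; linarith
    exact_mod_cast h2
  have hC := fun x (hx : orderOf x = p) => centP_of_le S hle hx
  have hP := le_antisymm hle (two_p_classes S hC)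
  have h0 : ∑ g ∈ ordSet G e, Complex.normSq ((η l₀ : G → ℂ) g) = 0 := by
    rw [hP] at hnc
    push_cast at hnc
    linarith
  have hval : ∀ z : G, orderOf z = 2 → (δ : ℂ) * (ψ : G → ℂ) z = -1 := by
    intro z hz
    have hzE : z ∈ ordSet G e := Finset.mem_filter.2 ⟨Finset.mem_univ _,
      fun h => by rw [h, orderOf_one] at hz; omega, hz.symm ▸ S.he.two_dvd⟩
    have h1 := (Finset.sum_eq_zero_iff_of_nonneg hnn).1 h0 z hzE
    rw [Complex.normSq_eq_zero] at h1
    have h2 := H.star.off hl₀ (not_inA S T (Or.inr hzE))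
    rw [h1, mul_zero, add_zero] at h2
    linear_combination h2
  obtain ⟨y, hy⟩ := T.exists_ne S.hk3
  have hG0 : (Nat.card G : ℂ) ≠ 0 := Nat.cast_ne_zero.2 Nat.card_pos.ne'
  have hX1 : (sdeg ψ δ : ℂ) + 1 ≠ 0 := by exact_mod_cast H.star.sdeg_succ_ne T S.hk3
  have hone : ∀ z : G, orderOf z = 2 → IsConj u z := by
    intro z hz
    by_contra hn
    have h1 := T.count_formula S.hk3 H.star (T.not_inA_of_two S.hk hz) hy
    rw [T.count_other S.hk hz hn hy, Nat.cast_zero, zero_mul, hval z hz, sub_neg_eq_add] at h1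
    exact mul_ne_zero hG0 (pow_ne_zero 2 hX1) h1.symm
  have hcu : Nat.card (Subgroup.centralizer ({u} : Set G)) = 2 * e := by
    set c := Nat.card (Subgroup.centralizer ({u} : Set G))
    have h1 := T.count_formula S.hk3 H.star (T.not_inA_of_two S.hk T.u2) hy
    rw [T.count_self S.hk hy, hval u T.u2, sub_neg_eq_add, S.card] at h1
    have h2 : ((k : ℂ) * (c : ℂ) ^ 2) * (sdeg ψ δ : ℂ) =
        ((q : ℂ) * k * (2 * e)) * ((sdeg ψ δ : ℂ) + 1) := by
      refine mul_right_cancel₀ hX1 ?_
      push_cast at h1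
      linear_combination h1
    have h3 : (k : ℤ) * (c : ℤ) ^ 2 * sdeg ψ δ = (q : ℤ) * k * (2 * e) * (sdeg ψ δ + 1) := by
      exact_mod_cast h2
    have hkq : (k : ℤ) * q ≠ 0 := by
      have := S.hk3
      have := S.q5
      positivity
    have h4 : (c : ℤ) ^ 2 = ((2 * e : ℕ) : ℤ) ^ 2 := by
      refine mul_left_cancel₀ hkq ?_
      rcases H.val with ⟨hq, hX⟩ | ⟨hq, hX⟩ <;> rcases S.hcase with ⟨hq', he⟩ | ⟨hq', he⟩ <;>
        rw [hX] at h3
      · have : (q : ℤ) + 1 = 2 * e := by
          have : q + 1 = 2 * e := by omega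
          exact_mod_cast this
        rw [this] at h3; push_cast; linear_combination h3
      · omega
      · omega
      · have : (q : ℤ) = 2 * e + 1 := by
          have : q = 2 * e + 1 := by omega
          exact_mod_cast this
        push_cast
        linear_combination -h3 + ((q : ℤ) * k * (2 * e)) * this
    have h5 : c ^ 2 = (2 * e) ^ 2 := by exact_mod_cast h4
    exact Nat.pow_left_injective two_ne_zero h5
  have hK := card_ordSet_k S T
  refine ⟨fun a b ha hb => (hone a ha).symm.trans (hone b hb), fun x hx => ?_, hC, hP, ?_, hK⟩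
  · obtain ⟨b, rfl⟩ := isConj_iff.1 (hone x hx)
    have h1 := card_conjClass_mul_centralizer u
    have h2 := card_conjClass_mul_centralizer (b * u * b⁻¹)
    have h3 : Nat.card {x : G // IsConj u x} = Nat.card {x : G // IsConj (b * u * b⁻¹) x} :=
      Nat.card_congr (Equiv.subtypeEquivRight fun x =>
        ⟨fun h => (isConj_iff.2 ⟨b, rfl⟩ : IsConj u (b * u * b⁻¹)).symm.trans h,
          fun h => (isConj_iff.2 ⟨b, rfl⟩ : IsConj u (b * u * b⁻¹)).trans h⟩)
    rw [← h3, ← h1] at h2
    exact (Nat.eq_of_mul_eq_mul_left (Nat.pos_of_ne_zero (card_conjClass_ne_zero u)) h2).trans hcu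
  · have h1 := sum_split S (fun _ : G => 1)
    simp only [Finset.sum_const, Finset.card_univ, smul_eq_mul, mul_one, ← Nat.card_eq_fintype_card,
      S.card, hP] at h1
    have hq1 := four_ek S
    rcases S.hcase with ⟨h, h'⟩ | ⟨h, h'⟩
    · subst h; subst h'; nlinarith
    · subst h'
      obtain rfl : q = 2 * e + 1 := by omega
      nlinarith

end Cfsg.Agent.Lead.PSLSpectrum
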