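import Cfsg.Agent.Lib.Lead.PSLSpectrum.Degrees
import Cfsg.Agent.Lib.Char.BSW.Eqs

/-!
# The spectrum of `PSL₂(q)`, `q` odd: the numbers of elements of each kind
-/

set_option autoImplicit false
set_option linter.unusedSectionVars false
set_option linter.style.haveILetI false

namespace Cfsg.Agent.Lead.PSLSpectrum

open Cfsg Cfsg.Agent.Char
open Cfsg.Agent.Char.BSW (diffFun phi mult coef oneC linC lin_orth)
open scoped ComplexConjugate Classical

variable {G : Type*} [Group G] [Fintype G] {p f q k e : ℕ} {A : Subgroup G} {u : G}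
variable {ψ : IrrCharacter G} {δ : ℤ} {η : (↥A →* ℂˣ) → IrrCharacter G} {ε : ℤ}

/-- The elements of order `p`. -/
noncomputable def pSet (G : Type*) [Group G] [Fintype G] (p : ℕ) : Finset G :=
  Finset.univ.filter fun g => orderOf g = p

/-- The non-trivial elements of order dividing `m`. -/
noncomputable def ordSet (G : Type*) [Group G] [Fintype G] (m : ℕ) : Finset G :=
  Finset.univ.filter fun g => g ≠ 1 ∧ orderOf g ∣ m

variable (S : Spec G p f q k e) (T : Torus G k A u)
include S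

theorem disjoint_kinds {g : G} (h1 : g ≠ 1) :
    ¬ (orderOf g = p ∧ orderOf g ∣ k) ∧ ¬ (orderOf g = p ∧ orderOf g ∣ e) ∧
      ¬ (orderOf g ∣ k ∧ orderOf g ∣ e) := by
  have hg : orderOf g ≠ 1 := fun h => h1 (orderOf_eq_one_iff.1 h)
  exact ⟨fun ⟨a, b⟩ => hg (Nat.eq_one_of_dvd_coprimes S.coprime_p_k a.dvd b),
    fun ⟨a, b⟩ => hg (Nat.eq_one_of_dvd_coprimes S.coprime_p_e a.dvd b),
    fun ⟨a, b⟩ => hg (Nat.eq_one_of_dvd_coprimes S.k_coprime_e a b)⟩

theorem sum_split {M : Type*} [AddCommMonoid M] (F : G → M) :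
    ∑ g, F g = F 1 + (∑ g ∈ ordSet G k, F g + (∑ g ∈ pSet G p, F g + ∑ g ∈ ordSet G e, F g)) := by
  rw [← Finset.add_sum_erase _ _ (Finset.mem_univ (1 : G))]
  congr 1
  have hd1 : Disjoint (pSet G p) (ordSet G e) := Finset.disjoint_left.2 fun g h h' => by
    simp only [pSet, ordSet, Finset.mem_filter, Finset.mem_univ, true_and] at h h'
    exact (disjoint_kinds S h'.1).2.1 ⟨h, h'.2⟩
  have hd2 : Disjoint (ordSet G k) (pSet G p ∪ ordSet G e) := Finset.disjoint_left.2 fun g h h' => by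
    simp only [pSet, ordSet, Finset.mem_union, Finset.mem_filter, Finset.mem_univ, true_and] at h h'
    rcases h' with h' | h'
    · exact (disjoint_kinds S h.1).1 ⟨h', h.2⟩
    · exact (disjoint_kinds S h.1).2.2 ⟨h.2, h'.2⟩
  rw [← Finset.sum_union hd1, ← Finset.sum_union hd2]
  refine Finset.sum_congr (Finset.ext fun g => ?_) fun _ _ => rfl
  simp only [pSet, ordSet, Finset.mem_erase, Finset.mem_union, Finset.mem_filter, Finset.mem_univ,
    true_and, and_true]
  constructor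
  · intro hg
    rcases S.kind hg with h | h | h
    · exact Or.inr (Or.inl h)
    · exact Or.inl ⟨hg, h⟩
    · exact Or.inr (Or.inr ⟨hg, h⟩)
  · rintro (⟨h, -⟩ | h | ⟨h, -⟩)
    · exact h
    · exact fun hg => S.hp.ne_one (by rw [← h, hg, orderOf_one])
    · exact h

include T

theorem inA_iff {g : G} : InA A g ↔ g ≠ 1 ∧ orderOf g ∣ k :=
  ⟨fun h => ⟨h.1, h.orderOf_dvd (T := T)⟩, fun h => ⟨h.1, T.inA g h.1 h.2⟩⟩

theorem not_inA {g : G} (hg : g ∈ pSet G p ∨ g ∈ ordSet G e) : ¬ InA A g := fun h => by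
  obtain ⟨h1, h2⟩ := (inA_iff S T).1 h
  rcases hg with h' | h'
  · exact (disjoint_kinds S h1).1 ⟨(Finset.mem_filter.1 h').2, h2⟩
  · exact (disjoint_kinds S h1).2.2 ⟨h2, (Finset.mem_filter.1 h').2.2⟩

/-- Summation over the conjugates of `A`. -/
theorem sum_inA (F : G → ℝ) (hF : ∀ g x : G, F (x * g * x⁻¹) = F g) :
    ∑ g ∈ ordSet G k, F g = (q * e : ℝ) * ∑ y ∈ (Finset.univ : Finset ↥A).erase 1, F y := by
  set D := (Finset.univ : Finset G) ×ˢ ((Finset.univ : Finset ↥A).erase 1) with hD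
  have hmaps : ∀ w ∈ D, w.1 * (w.2 : G) * w.1⁻¹ ∈ ordSet G k := by
    rintro ⟨x, y⟩ hw
    have hy : y ≠ 1 := (Finset.mem_erase.1 (Finset.mem_product.1 hw).2).1
    refine Finset.mem_filter.2 ⟨Finset.mem_univ _, fun h => hy (Subtype.ext (conj_eq_one_iff.1 h)), ?_⟩
    rw [show x * (y : G) * x⁻¹ = MulAut.conj x (y : G) from rfl, MulEquiv.orderOf_eq, ← T.card]
    exact Subgroup.orderOf_dvd_natCard A y.2
  have hN : (Finset.univ.filter fun n : G => n ∈ A ∨ u * n ∈ A).card = 2 * k := by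
    rw [Finset.filter_or, Finset.card_union_of_disjoint]
    · have h1 : (Finset.univ.filter fun x : G => x ∈ A).card = k := by
        rw [← T.card, Nat.card_eq_fintype_card, Fintype.card_subtype]
      have h2 : (Finset.univ.filter fun x : G => u * x ∈ A).card = k := by
        conv_rhs => rw [← h1]
        exact Finset.card_equiv (Equiv.mulLeft u) fun x => by simp
      rw [h1, h2]; ring
    · refine Finset.disjoint_left.2 fun x h1 h2 => T.notMem ?_
      simpa using A.mul_mem (Finset.mem_filter.1 h2).2 (A.inv_mem (Finset.mem_filter.1 h1).2)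
  have hfib : ∀ g ∈ ordSet G k, (D.filter fun w => w.1 * (w.2 : G) * w.1⁻¹ = g).card = 2 * k := by
    intro g hg
    obtain ⟨hg1, hgk⟩ := (Finset.mem_filter.1 hg).2
    obtain ⟨x, hx⟩ := T.inA g hg1 hgk
    have hx1 : x⁻¹ * g * x ≠ 1 := fun h => hg1 (by
      have : g = x * (x⁻¹ * g * x) * x⁻¹ := by group
      rw [this, h]; group)
    have hmem : ∀ n : G, (n ∈ A ∨ u * n ∈ A) → n⁻¹ * (x⁻¹ * g * x) * n ∈ A := by
      rintro n (h | h)
      · exact A.mul_mem (A.mul_mem (A.inv_mem h) hx) h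
      · rw [T.out_inv h hx]; exact A.inv_mem hx
    rw [← hN]
    refine Finset.card_bij (fun w _ => x⁻¹ * w.1) ?_ ?_ ?_
    · rintro ⟨w, y⟩ hw
      obtain ⟨hw1, hw2⟩ := Finset.mem_filter.1 hw
      have hy : y ≠ 1 := (Finset.mem_erase.1 (Finset.mem_product.1 hw1).2).1
      refine Finset.mem_filter.2 ⟨Finset.mem_univ _, T.norm _ y y.2 (fun h => hy (Subtype.ext h)) ?_⟩
      rw [show x⁻¹ * w * (y : G) * (x⁻¹ * w)⁻¹ = x⁻¹ * (w * (y : G) * w⁻¹) * x by group, hw2]
      exact hx
    · rintro ⟨w, y⟩ hw ⟨w', y'⟩ hw' h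
      obtain rfl : w = w' := mul_left_cancel h
      have h1 := (Finset.mem_filter.1 hw).2.trans (Finset.mem_filter.1 hw').2.symm
      exact Prod.ext rfl (Subtype.ext (mul_left_cancel (mul_right_cancel h1)))
    · intro n hn
      refine ⟨(x * n, ⟨_, hmem n (Finset.mem_filter.1 hn).2⟩), Finset.mem_filter.2 ⟨?_, ?_⟩, by group⟩
      · refine Finset.mem_product.2 ⟨Finset.mem_univ _, Finset.mem_erase.2 ⟨fun h => hx1 ?_,
          Finset.mem_univ _⟩⟩
        have h' : n⁻¹ * (x⁻¹ * g * x) * n = 1 := congrArg Subtype.val h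
        have : x⁻¹ * g * x = n * (n⁻¹ * (x⁻¹ * g * x) * n) * n⁻¹ := by group
        rw [this, h']; group
      · group
  have h1 : ∑ w ∈ D, F (w.1 * (w.2 : G) * w.1⁻¹) = (2 * k : ℝ) * ∑ g ∈ ordSet G k, F g := by
    rw [← Finset.sum_fiberwise_of_maps_to' hmaps F, Finset.mul_sum]
    refine Finset.sum_congr rfl fun g hg => ?_
    rw [Finset.sum_const, hfib g hg, nsmul_eq_mul]
    push_cast; rfl
  have h2 : ∑ w ∈ D, F (w.1 * (w.2 : G) * w.1⁻¹) =
      (Nat.card G : ℝ) * ∑ y ∈ (Finset.univ : Finset ↥A).erase 1, F y := by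
    rw [hD, Finset.sum_product]
    simp only [hF, Finset.sum_const, Finset.card_univ, nsmul_eq_mul, Nat.card_eq_fintype_card]
  rw [h1, S.card] at h2
  push_cast at h2
  have hk0 : (2 * k : ℝ) ≠ 0 := by
    have := S.hk3
    positivity
  refine mul_left_cancel₀ hk0 ?_
  rw [h2]; ring

theorem card_ordSet_k : (ordSet G k).card + q * e = q * e * k := by
  have h := sum_inA S T (fun _ => 1) fun _ _ => rfl
  simp only [Finset.sum_const, nsmul_eq_mul, mul_one, Finset.card_erase_of_mem (Finset.mem_univ (1 : ↥A)),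
    Finset.card_univ, show Fintype.card ↥A = k from Nat.card_eq_fintype_card.symm.trans T.card] at h
  rw [Nat.cast_sub (by have := S.hk3; omega : 1 ≤ k), Nat.cast_one] at h
  have h' : ((ordSet G k).card : ℝ) + (q : ℝ) * e = q * e * k := by rw [h]; ring
  exact_mod_cast h'

variable (H : Good G q k A ψ δ η ε)
include H

theorem deg_psi : deg (ψ : G → ℂ) = q := by
  have h : (deg (ψ : G → ℂ) : ℤ) ^ 2 = (q : ℤ) ^ 2 := by
    rw [← sdeg_sq ψ H.star.hδ]
    rcases H.val with ⟨-, h⟩ | ⟨-, h⟩ <;> rw [h] <;> ring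
  have h' : deg (ψ : G → ℂ) ^ 2 = q ^ 2 := by exact_mod_cast h
  exact Nat.pow_left_injective two_ne_zero h'

omit T H in
theorem factorization_card : p ^ (Nat.card G).factorization p = q := by
  have hm : ¬ p ∣ k * (2 * e) := fun h => S.hp.ne_one (Nat.eq_one_of_dvd_coprimes
    (S.coprime_p_k.mul_right (S.coprime_p_two.mul_right S.coprime_p_e)) dvd_rfl h)
  rw [S.card, mul_assoc, Nat.factorization_mul (by have := S.q5; omega)
    (by have := S.hk3; have := S.e2; positivity), Finsupp.add_apply,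
    Nat.factorization_eq_zero_of_not_dvd hm, add_zero, S.hq, Nat.Prime.factorization_pow S.hp, Finsupp.single_eq_same]

theorem psi_vanish {g : G} (hg : g ∈ pSet G p) : (ψ : G → ℂ) g = 0 :=
  BSW.defect_zero_vanish S.hp (by rw [factorization_card S, deg_psi S T H])
    (Finset.mem_filter.1 hg).2.symm.dvd

theorem eta_norm_one {l : ↥A →* ℂˣ} (hl : l ≠ 1) {g : G} (hg : g ∈ pSet G p) :
    Complex.normSq ((η l : G → ℂ) g) = 1 := by
  have h := H.star.off hl (not_inA S T (Or.inl hg))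
  rw [psi_vanish S T H hg, mul_zero, add_zero] at h
  have h2 : (η l : G → ℂ) g = -(ε : ℂ) := by
    have := H.star.εsq
    linear_combination (ε : ℂ) * h - (η l : G → ℂ) g * this
  rw [h2]
  rcases H.star.hε with e' | e' <;> simp [e']

theorem sum_eta_A {l : ↥A →* ℂˣ} (hl : l ≠ 1) :
    ∑ y ∈ (Finset.univ : Finset ↥A).erase 1, Complex.normSq ((η l : G → ℂ) (y : G)) =
      2 * (k : ℝ) - 4 := by
  have h2 : ∀ m : ↥A →* ℂˣ, m ≠ 1 → ∑ y : ↥A, (m y : ℂ) = 0 := fun m hm =>
    sum_hom_units_eq_zero ((Units.coeHom ℂ).comp m) fun h => hm (MonoidHom.ext fun y =>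
      Units.ext (by simpa using DFunLike.congr_fun h y))
  have hsq : l * l ≠ 1 := fun h => T.hom_ne_inv S.hk hl (MonoidHom.ext fun y => by
    have := DFunLike.congr_fun h y
    rw [MonoidHom.mul_apply, MonoidHom.one_apply] at this
    rw [MonoidHom.inv_apply, eq_inv_iff_mul_eq_one, this])
  have hsq' : l⁻¹ * l⁻¹ ≠ 1 := fun h => hsq (MonoidHom.ext fun y => by
    have := DFunLike.congr_fun h y
    simp only [MonoidHom.mul_apply, MonoidHom.inv_apply, MonoidHom.one_apply, ← mul_inv, inv_eq_one] at this ⊢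
    exact this)
  have hval : ∀ y : ↥A, y ∈ (Finset.univ : Finset ↥A).erase 1 →
      (Complex.normSq ((η l : G → ℂ) (y : G)) : ℂ) =
        ((l * l) y : ℂ) + ((l⁻¹ * l⁻¹) y : ℂ) + 2 := by
    intro y hy
    rw [← Complex.mul_conj, T.eta_on S.hk H.star hl (Finset.mem_erase.1 hy).1]
    rw [map_mul, map_neg, map_add, conj_hom, conj_hom, inv_inv, map_intCast]
    simp only [MonoidHom.mul_apply, MonoidHom.inv_apply, Units.val_mul, map_inv]
    have h1 : (l y : ℂ) * ((l y)⁻¹ : ℂˣ) = 1 := by rw [← Units.val_mul, mul_inv_cancel, Units.val_one]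
    have h3 := H.star.εsq
    linear_combination (((l y : ℂ) + ((l y)⁻¹ : ℂˣ)) ^ 2) * h3 + 2 * h1
  have hkey : ((∑ y ∈ (Finset.univ : Finset ↥A).erase 1,
      Complex.normSq ((η l : G → ℂ) (y : G)) : ℝ) : ℂ) = 2 * (k : ℂ) - 4 := by
    rw [Complex.ofReal_sum, Finset.sum_congr rfl hval, Finset.sum_erase_eq_sub (Finset.mem_univ _),
      Finset.sum_add_distrib, Finset.sum_add_distrib, h2 _ hsq, h2 _ hsq']
    simp only [Finset.sum_const, Finset.card_univ, nsmul_eq_mul, MonoidHom.mul_apply, map_one,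
      show Fintype.card ↥A = k from Nat.card_eq_fintype_card.symm.trans T.card, mul_one, Units.val_one]
    ring
  have := congrArg Complex.re hkey
  simpa using this

/-- The norm of `η` counts the elements of order `p`. -/
theorem norm_count {l : ↥A →* ℂˣ} (hl : l ≠ 1) :
    ((pSet G p).card : ℝ) + ∑ g ∈ ordSet G e, Complex.normSq ((η l : G → ℂ) g) = 4 * (e : ℝ) * k := by
  have h : ∑ g : G, Complex.normSq ((η l : G → ℂ) g) = (Nat.card G : ℝ) := by
    have h0 := irr_self (η l).2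
    rw [classInner, inv_mul_eq_one₀ (Nat.cast_ne_zero.2 Nat.card_pos.ne')] at h0
    simp only [Complex.mul_conj] at h0
    rw [← Complex.ofReal_sum] at h0
    have := congrArg Complex.re h0
    simpa using this.symm
  rw [sum_split S, sum_inA S T (fun g => Complex.normSq ((η l : G → ℂ) g))
    (fun g x => by rw [isClassFunction_character (irr_isCharacter (η l).2) g x]), sum_eta_A S T H hl,
    Finset.sum_congr rfl (fun g hg => eta_norm_one S T H hl hg), Finset.sum_const, nsmul_eq_mul,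
    mul_one, char_one_eq_deg (irr_isCharacter (η l).2), S.card, Complex.normSq_natCast] at h
  push_cast at h
  have hd : (deg (η l : G → ℂ) : ℤ) ^ 2 = 4 * (e : ℤ) ^ 2 := by
    have h4 := H.star.deg_rel hl
    have h5 : (sdeg ψ δ + 1) ^ 2 = 4 * (e : ℤ) ^ 2 := by
      rcases H.val with ⟨hq, hX⟩ | ⟨hq, hX⟩ <;> rcases S.hcase with ⟨hq', he⟩ | ⟨hq', he⟩ <;>
        rw [hX]
      · rw [hq, he]; push_cast; ring
      · omega
      · omega
      · have : (q : ℤ) = 2 * e + 1 := by
          have : q = 2 * e + 1 := by omega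
          exact_mod_cast this
        rw [this]; ring
    rw [← h5]
    rcases H.star.hε with h6 | h6 <;> rw [h6] at h4 <;> nlinarith
  have hd' : (deg (η l : G → ℂ) : ℝ) * (deg (η l : G → ℂ) : ℝ) = 4 * (e : ℝ) ^ 2 := by
    have : ((deg (η l : G → ℂ) : ℤ) : ℝ) ^ 2 = ((4 * (e : ℤ) ^ 2 : ℤ) : ℝ) := by exact_mod_cast hd
    push_cast at this
    rw [← this]; ring
  have hqe : (q : ℝ) = (k : ℝ) + e := by
    have : q = k + e := by rcases S.hcase with ⟨a, b⟩ | ⟨a, b⟩ <;> omega
    exact_mod_cast this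
  rw [hd'] at h
  linear_combination h + 4 * (e : ℝ) * hqe

omit H T in
theorem four_ek : 4 * e * k + 1 = q ^ 2 := by
  rcases S.hcase with ⟨h, h'⟩ | ⟨h, h'⟩
  · rw [h, h']; ring
  · subst h'
    have : q = 2 * e + 1 := by omega
    rw [this]; ring

omit H T in
theorem index_centralizer_eq {g : G} (hg : Nat.card (Subgroup.centralizer ({g} : Set G)) = q) :
    Nat.card {x : G // IsConj g x} = 2 * e * k := by
  have h1 := (Subgroup.centralizer ({g} : Set G)).card_mul_index
  rw [hg, S.card] at h1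
  have h3 := card_conjClass_eq_index g
  rw [h3]
  have h2 := S.q5
  nlinarith

end Cfsg.Agent.Lead.PSLSpectrum
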