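import Cfsg.Agent.Lib.Lead.PSLSpectrum.Dihedral
import Cfsg.Agent.Lib.Classical.Dickson.Tools
import Cfsg.Agent.S0731

/-!
# The spectrum of `PSL₂(q)`, `q` odd: recognition through the action on Sylow `p`-subgroups
-/

set_option autoImplicit false
set_option linter.unusedSectionVars false
set_option linter.style.haveILetI false

open Cfsg
open scoped Classical Pointwise

namespace Cfsg.Agent.Lead.PSLSpectrum

variable {G : Type*} [Group G] [Fintype G] {p f q k e : ℕ}

theorem recognise (F : Facts G p q k e) (S : Spec G p f q k e) :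
    ∃ (K : Type) (_ : Field K) (_ : Fintype K), Fintype.card K = q ∧
      Nonempty (G ≃* Matrix.ProjectiveSpecialLinearGroup (Fin 2) K) := by
  obtain ⟨Q, D, hQ, hcent, hD, hdisj, hN⟩ := exists_kernel F S
  set N := Subgroup.normalizer (Q : Set G) with hNdef
  have hq5 := S.q5
  have hQN : Q ≤ N := Subgroup.le_normalizer
  have hDN : D ≤ N := hN ▸ le_sup_right
  haveI hQn : (Q.subgroupOf N).Normal := Subgroup.normal_in_normalizer
  -- the order of the normalizer
  have hNc : Nat.card N = q * Nat.card D := by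
    let φ : Q × D → ↥N := fun w => ⟨(w.1 : G) * w.2, mul_mem (hQN w.1.2) (hDN w.2.2)⟩
    have hφ : Function.Bijective φ := by
      constructor
      · intro v w h
        exact (Subgroup.mul_injective_of_disjoint (disjoint_iff.2 hdisj)) (congrArg Subtype.val h)
      · rintro ⟨y, hy⟩
        have h4 : (Q : Set G) * (D : Set G) = ((Q ⊔ D : Subgroup G) : Set G) :=
          (Subgroup.coe_mul_of_right_le_normalizer_left Q D hDN).symm
        have hy' : y ∈ ((Q ⊔ D : Subgroup G) : Set G) := by rw [← hN]; exact hy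
        rw [← h4] at hy'
        obtain ⟨z, hz, c, hc, rfl⟩ := hy'
        exact ⟨(⟨z, hz⟩, ⟨c, hc⟩), rfl⟩
    rw [← Nat.card_eq_of_bijective φ hφ, Nat.card_prod, hQ]
  have hidx : N.index = q + 1 := by
    have h := N.card_mul_index
    rw [hNc, S.card] at h
    have hq2 := four_ek S
    obtain ⟨d, rfl⟩ : ∃ d, q = 2 * d + 1 := ⟨Nat.card D, hD.symm⟩
    have hd : Nat.card D = d := by omega
    rw [hd] at h
    have h1 : d * N.index = k * (2 * e) :=
      Nat.eq_of_mul_eq_mul_left (show 0 < 2 * d + 1 by omega) (by linarith)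
    exact Nat.eq_of_mul_eq_mul_left (show 0 < d by omega) (by rw [h1]; nlinarith)
  have hordQ : ∀ x ∈ Q, x ≠ 1 → orderOf x = p := by
    intro w hw hw1
    have h1 : orderOf w ∣ q := hQ ▸ Subgroup.orderOf_dvd_natCard _ hw
    rcases S.kind hw1 with h | h | h
    · exact h
    · exact absurd (orderOf_eq_one_iff.1 (Nat.eq_one_of_dvd_coprimes S.coprime_q_k h1 h)) hw1
    · exact absurd (orderOf_eq_one_iff.1 (Nat.eq_one_of_dvd_coprimes S.coprime_q_e h1 h)) hw1
  have hpD : ¬ p ∣ Nat.card D := fun h => by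
    have h1 : p ∣ 2 * Nat.card D + 1 := hD ▸ S.p_dvd_q
    exact S.hp.ne_one (Nat.dvd_one.1 ((Nat.dvd_add_iff_right (h.mul_left 2)).2 h1))
  have hNidx : (Q.subgroupOf N).index = Nat.card D := by
    have h := (Q.subgroupOf N).card_mul_index
    rw [Nat.card_congr (Subgroup.subgroupOfEquivOfLe hQN).toEquiv, hQ, hNc] at h
    exact Nat.eq_of_mul_eq_mul_left (by omega) h
  have hpN : ∀ w ∈ N, orderOf w = p → w ∈ Q := by
    intro w hw hwp
    have h1 : (⟨w, hw⟩ : N) ^ Nat.card D ∈ Q.subgroupOf N := by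
      rw [← QuotientGroup.eq_one_iff, QuotientGroup.mk_pow, ← hNidx, Subgroup.index_eq_card]
      exact pow_card_eq_one'
    have h2 : w ^ Nat.card D ∈ Q := Subgroup.mem_subgroupOf.1 h1
    have hcop : Nat.Coprime (orderOf w) (Nat.card D) := by
      rw [hwp]; exact S.hp.coprime_iff_not_dvd.2 hpD
    obtain ⟨m, hm⟩ := exists_pow_eq_self_of_coprime hcop.symm
    rw [← hm]
    exact Q.pow_mem h2 m
  -- the action on the cosets
  set x₀ : G ⧸ N := ((1 : G) : G ⧸ N) with hx₀
  have hstab : ∀ g : G, g • x₀ = x₀ ↔ g ∈ N := by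
    intro g
    change ((g * 1 : G) : G ⧸ N) = _ ↔ _
    rw [QuotientGroup.eq, mul_one, mul_one, inv_mem_iff]
  have hfix : ∀ v ∈ Q, v ≠ 1 → ∀ y : G ⧸ N, v • y = y → y = x₀ := by
    intro v hv hv1 y hy
    induction y using QuotientGroup.induction_on with | _ g =>
    change ((v * g : G) : G ⧸ N) = _ at hy
    rw [eq_comm, QuotientGroup.eq, ← mul_assoc] at hy
    have hne : g⁻¹ * v * g ≠ 1 := fun h => hv1 (by
      have : v = g * (g⁻¹ * v * g) * g⁻¹ := by group
      rw [this, h]; group)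
    have hQ' := hpN _ hy (by
      rw [show g⁻¹ * v * g = g⁻¹ * v * g⁻¹⁻¹ by group, orderOf_conj', hordQ v hv hv1])
    have hgN : g ∈ N := mem_normalizer_of_cent (w := g⁻¹ * v * g) (hcent _ hQ' hne)
      (by rw [show g * (g⁻¹ * v * g) * g⁻¹ = v by group]; exact hcent v hv hv1)
    rw [hx₀, QuotientGroup.eq, mul_one, inv_mem_iff]
    exact hgN
  haveI : Fintype (G ⧸ N) := Fintype.ofFinite _
  have hΩ : Fintype.card (G ⧸ N) = q + 1 := by
    rw [← Nat.card_eq_fintype_card, ← Subgroup.index_eq_card, hidx]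
  have hQx : ∀ v : Q, (v : G) • x₀ = x₀ := fun v => (hstab _).2 (hQN v.2)
  have hreg : ∀ y z : G ⧸ N, y ≠ x₀ → z ≠ x₀ → ∃! v : Q, (v : G) • y = z := by
    intro y z hy hz
    let φ : Q → {w : G ⧸ N // w ≠ x₀} := fun v => ⟨(v : G) • y, fun h =>
      hy (MulAction.injective (v : G) (h.trans (hQx v).symm))⟩
    have hinj : Function.Injective φ := by
      intro v w h
      have h' : (v : G) • y = (w : G) • y := congrArg Subtype.val h
      by_contra hne
      refine hy (hfix ((w : G)⁻¹ * v) (mul_mem (inv_mem w.2) v.2)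
        (fun h1 => hne (Subtype.ext (inv_mul_eq_one.1 h1).symm)) y ?_)
      rw [mul_smul, h', inv_smul_smul]
    have hbij : Function.Bijective φ := by
      rw [Fintype.bijective_iff_injective_and_card]
      refine ⟨hinj, ?_⟩
      rw [Fintype.card_subtype_compl, Fintype.card_subtype_eq, hΩ, ← Nat.card_eq_fintype_card, hQ]
      omega
    obtain ⟨v, hv⟩ := hbij.2 ⟨z, hz⟩
    exact ⟨v, congrArg Subtype.val hv, fun w hw => hbij.1 (Subtype.ext (hw.trans (congrArg Subtype.val hv).symm))⟩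
  have h2 : MulAction.IsMultiplyPretransitive G (G ⧸ N) 2 := by
    rw [MulAction.is_two_pretransitive_iff]
    intro a b c d hab hcd
    obtain ⟨g₁, hg₁⟩ := MulAction.exists_smul_eq G a x₀
    obtain ⟨g₂, hg₂⟩ := MulAction.exists_smul_eq G c x₀
    obtain ⟨v, hv, -⟩ := hreg (g₁ • b) (g₂ • d)
      (fun h => hab (MulAction.injective g₁ (hg₁.trans h.symm)))
      (fun h => hcd (MulAction.injective g₂ (hg₂.trans h.symm)))
    refine ⟨g₂⁻¹ * v * g₁, ?_, ?_⟩
    · rw [mul_smul, mul_smul, hg₁, hQx v, ← hg₂, inv_smul_smul]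
    · rw [mul_smul, mul_smul, hv, inv_smul_smul]
  have h3 : ∀ g : G, ∀ a b c : G ⧸ N, a ≠ b → b ≠ c → a ≠ c →
      g • a = a → g • b = b → g • c = c → g = 1 := by
    intro g a b c hab hbc hac ha hb hc
    obtain ⟨g₁, hg₁⟩ := MulAction.exists_smul_eq G a x₀
    set g' := g₁ * g * g₁⁻¹ with hg'
    have key : ∀ y : G ⧸ N, g • y = y → g' • (g₁ • y) = g₁ • y := fun y hy => by
      rw [hg', mul_smul, mul_smul, inv_smul_smul, hy]
    have hgN : g' ∈ N := (hstab _).1 (hg₁ ▸ key a ha)
    have hb' : g₁ • b ≠ x₀ := fun h => hab (MulAction.injective g₁ (hg₁.trans h.symm))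
    have hc' : g₁ • c ≠ x₀ := fun h => hac (MulAction.injective g₁ (hg₁.trans h.symm))
    obtain ⟨v, hv, huniq⟩ := hreg (g₁ • b) (g₁ • c) hb' hc'
    have hgb := key b hb
    have hgc := key c hc
    have hconj : g' * v * g'⁻¹ ∈ Q := (Subgroup.mem_normalizer_iff.1 hgN _).1 v.2
    have hveq := huniq ⟨_, hconj⟩ (show (g' * v * g'⁻¹) • (g₁ • b) = g₁ • c by
      have : g'⁻¹ • (g₁ • b) = g₁ • b := inv_smul_eq_iff.2 hgb.symm
      rw [mul_smul, mul_smul, this, hv, hgc])
    have hv1 : (v : G) ≠ 1 := fun h => hbc (MulAction.injective g₁ (show g₁ • b = g₁ • c by rw [← hv, h, one_smul]))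
    have hgQ : g' ∈ Q := by
      rw [← hcent v v.2 hv1, Subgroup.mem_centralizer_singleton_iff]
      exact mul_inv_eq_iff_eq_mul.1 (congrArg Subtype.val hveq)
    have hg1 : g' = 1 := by
      by_contra hne
      exact hb' (hfix g' hgQ hne _ hgb)
    rw [hg'] at hg1
    exact conj_eq_one_iff.1 hg1
  have hfix2 : ∃ g : G, g ≠ 1 ∧ ∃ a b : G ⧸ N, a ≠ b ∧ g • a = a ∧ g • b = b := by
    obtain ⟨y₀, hy₀⟩ : ∃ y : G ⧸ N, y ≠ x₀ :=
      Fintype.exists_ne_of_one_lt_card (by rw [hΩ]; omega) x₀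
    by_contra hno
    push Not at hno
    let φ : N → {w : G ⧸ N // w ≠ x₀} := fun n => ⟨(n : G) • y₀, fun h =>
      hy₀ (MulAction.injective (n : G) (h.trans ((hstab _).2 n.2).symm))⟩
    have hinj : Function.Injective φ := by
      intro v w h
      have h' : (v : G) • y₀ = (w : G) • y₀ := congrArg Subtype.val h
      by_contra hne
      refine hno ((w : G)⁻¹ * v) (fun h1 => hne (Subtype.ext (inv_mul_eq_one.1 h1).symm))
        x₀ y₀ (Ne.symm hy₀) ((hstab _).2 (mul_mem (inv_mem w.2) v.2)) ?_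
      rw [mul_smul, h', inv_smul_smul]
    have h := Nat.card_le_card_of_injective φ hinj
    rw [hNc, Nat.card_eq_fintype_card (α := {w : G ⧸ N // w ≠ x₀}), Fintype.card_subtype_compl,
      Fintype.card_subtype_eq, hΩ] at h
    have hD2 : 2 ≤ Nat.card D := by omega
    have := Nat.mul_le_mul_left q hD2
    omega
  have h5 : ∀ M : Subgroup G, M.Normal → MulAction.IsPretransitive M (G ⧸ N) →
      ∃ a : G ⧸ N, MulAction.stabilizer M a ≠ ⊥ := by
    intro M hM hMt
    by_contra hno
    push Not at hno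
    have h := MulAction.index_stabilizer_of_transitive M x₀
    rw [hno x₀, Subgroup.index_bot, Nat.card_eq_fintype_card (α := G ⧸ N), hΩ] at h
    haveI : Fact (Nat.Prime 2) := ⟨Nat.prime_two⟩
    obtain ⟨m, hm⟩ := exists_prime_orderOf_dvd_card' (G := M) 2
      (h ▸ (Nat.not_even_iff_odd.2 S.q_odd |> fun h => (Nat.even_add_one.2 h).two_dvd))
    rw [← Subgroup.orderOf_coe] at hm
    have hsub : (Finset.univ.filter fun x : G => orderOf x = 2) ⊆
        Finset.univ.filter fun x : G => x ∈ M := by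
      intro x hx
      obtain ⟨c, rfl⟩ := isConj_iff.1 (F.invConj m x hm (Finset.mem_filter.1 hx).2)
      exact Finset.mem_filter.2 ⟨Finset.mem_univ _, hM.conj_mem _ m.2 c⟩
    have h1 := Finset.card_le_card hsub
    rw [F.card_invol S hm, ← Fintype.card_subtype, ← Nat.card_eq_fintype_card,
      show Nat.card {x : G // x ∈ M} = q + 1 from h] at h1
    have := S.hk3
    nlinarith
  have hne3 : ∃ a b c : G ⧸ N, a ≠ b ∧ a ≠ c ∧ b ≠ c :=
    Fintype.two_lt_card_iff.1 (by rw [hΩ]; omega)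
  haveI hfaith : FaithfulSMul G (G ⧸ N) := ⟨fun {g h} he => by
    obtain ⟨a, b, c, hab, hac, hbc⟩ := hne3
    refine (inv_mul_eq_one.1 (h3 (h⁻¹ * g) a b c hab hbc hac ?_ ?_ ?_)).symm <;>
      rw [mul_smul, he, inv_smul_smul]⟩
  have hZ : Cfsg.IsZassenhausGroup G (G ⧸ N) := ⟨hfaith, h2, h3, hfix2, h5⟩
  have hQle : Q ≤ MulAction.stabilizer G x₀ := fun v hv => (hstab v).2 (hQN hv)
  have hQnorm : (Q.subgroupOf (MulAction.stabilizer G x₀)).Normal := by
    refine ⟨fun n hn g => ?_⟩
    rw [Subgroup.mem_subgroupOf] at hn ⊢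
    exact (Subgroup.mem_normalizer_iff.1 ((hstab _).1 g.2) _).1 hn
  have hQab : IsMulCommutative Q := ⟨⟨fun a b => Subtype.ext (by
    by_cases hb : (b : G) = 1
    · simp [hb]
    · exact Subgroup.mem_centralizer_singleton_iff.1 ((hcent b b.2 hb).symm ▸ a.2))⟩⟩
  rcases Cfsg.Agent.S0731.result hZ x₀ Q hQle hQnorm hQab hreg with ⟨h3t, hstabt⟩ | ⟨K, iK, iKF, hK2, ⟨iso⟩⟩
  · exfalso
    obtain ⟨a, b, c, hab, hac, hbc⟩ := hne3
    let t₀ : Fin 3 ↪ (G ⧸ N) := ⟨![a, b, c], fun i j h => by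
      fin_cases i <;> fin_cases j <;>
        first
        | rfl
        | exact absurd h hab
        | exact absurd h hac
        | exact absurd h hbc
        | exact absurd h.symm hab
        | exact absurd h.symm hac
        | exact absurd h.symm hbc⟩
    haveI : MulAction.IsPretransitive G (Fin 3 ↪ (G ⧸ N)) := h3t
    have h := MulAction.index_stabilizer_of_transitive G t₀
    rw [hstabt t₀, Subgroup.index_bot, Nat.card_eq_fintype_card (α := (Fin 3 ↪ (G ⧸ N))),
      Fintype.card_embedding_eq, Fintype.card_fin, hΩ, S.card] at h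
    simp only [Nat.descFactorial_succ, Nat.descFactorial_zero, Nat.sub_zero, mul_one] at h
    have hq2 := four_ek S
    obtain ⟨r, rfl⟩ := Nat.exists_eq_add_of_le (show 1 ≤ q by omega)
    rw [show 1 + r + 1 - 1 = 1 + r by omega, show 1 + r + 1 - 2 = r by omega] at h
    nlinarith
  · letI := iK
    letI := iKF
    refine ⟨K, inferInstance, inferInstance, ?_, ⟨iso⟩⟩
    have h2K : (2 : K) ≠ 0 := by
      intro h
      have : ((2 : ℕ) : K) = 0 := by rw [Nat.cast_ofNat]; exact h
      rw [ringChar.spec, Nat.prime_dvd_prime_iff_eq (CharP.char_is_prime K (ringChar K)) Nat.prime_two] at this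
      exact hK2 this
    have hc := Cfsg.Agent.Classical.Dickson.card_psl K
    rw [← Nat.card_congr iso.toEquiv, Cfsg.Agent.Classical.Dickson.two_dvd_pred h2K, S.card] at hc
    set x := Fintype.card K
    have hx : 0 < x := Fintype.card_pos
    have h1 : x * (x ^ 2 - 1) + x = x ^ 3 := by
      obtain ⟨y, hy⟩ := Nat.exists_eq_add_of_le (Nat.one_le_pow 2 x hx)
      rw [hy, Nat.add_sub_cancel_left, show x ^ 3 = x * x ^ 2 by ring, hy]; ring
    rw [← hc] at h1
    have h2 : q * k * (2 * e) * 2 + q = q ^ 3 := by rw [pow_succ, ← four_ek S]; ring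
    rcases lt_trichotomy x q with h | h | h
    · have := Nat.pow_lt_pow_left h (show 3 ≠ 0 by norm_num)
      nlinarith [Nat.pow_lt_pow_left h (show 2 ≠ 0 by norm_num)]
    · exact h
    · have := Nat.pow_lt_pow_left h (show 3 ≠ 0 by norm_num)
      nlinarith [Nat.pow_lt_pow_left h (show 2 ≠ 0 by norm_num)]

end Cfsg.Agent.Lead.PSLSpectrum
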