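import Mathlib
import Cfsg.Agent.Lib.Char.DefectZeroProduct

/-!
# The spectrum of `PSL₂(q)`, `q` odd: the self-centralizing torus of odd order
-/

set_option autoImplicit false
set_option linter.unusedSectionVars false
set_option linter.style.haveILetI false

namespace Cfsg.Agent.Lead.PSLSpectrum

open scoped Pointwise

variable {G : Type*} [Group G] [Finite G]

/-- The numerical hypotheses: `k` is the odd one, `e` the even one of `(q ± 1) / 2`. -/
structure Spec (G : Type*) [Group G] (p f q k e : ℕ) : Prop where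
  hp : p.Prime
  hp2 : p ≠ 2
  hq : q = p ^ f
  hf : 0 < f
  hk : Odd k
  hk3 : 3 ≤ k
  he : Even e
  hcase : (q = 2 * k + 1 ∧ e = k + 1) ∨ (q + 1 = 2 * k ∧ e + 1 = k)
  card : Nat.card G = q * k * (2 * e)
  hord : ∀ g : G, orderOf g ∣ p ∨ orderOf g ∣ k ∨ orderOf g ∣ e
  exk : ∃ g : G, orderOf g = k
  exe : ∃ g : G, orderOf g = e

variable {p f q k e : ℕ}

namespace Spec

variable (S : Spec G p f q k e)
include S

theorem e2 : 2 ≤ e := by
  obtain ⟨j, hj⟩ := S.he
  have := S.hk3
  rcases S.hcase with ⟨-, h⟩ | ⟨-, h⟩ <;> omega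

theorem q5 : 5 ≤ q := by
  have := S.hk3
  rcases S.hcase with ⟨h, -⟩ | ⟨h, -⟩ <;> omega

theorem p_dvd_q : p ∣ q := S.hq ▸ dvd_pow_self p S.hf.ne'

theorem q_odd : Odd q := S.hq ▸ (S.hp.odd_of_ne_two S.hp2).pow

theorem k_coprime_e : Nat.Coprime k e := by
  rcases S.hcase with ⟨-, h⟩ | ⟨-, h⟩
  · rw [h]; exact (Nat.coprime_self_add_right).2 (Nat.coprime_one_right k)
  · rw [← h]; exact (Nat.coprime_self_add_left).2 (Nat.coprime_one_left e)

theorem coprime_p_k : Nat.Coprime p k := by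
  rw [S.hp.coprime_iff_not_dvd]
  intro h
  have h1 := S.p_dvd_q
  have h2 : p ∣ 2 * k := h.mul_left 2
  rcases S.hcase with ⟨hq, -⟩ | ⟨hq, -⟩
  · rw [hq] at h1; exact S.hp.ne_one (Nat.dvd_one.1 ((Nat.dvd_add_iff_right h2).2 h1))
  · rw [← hq] at h2; exact S.hp.ne_one (Nat.dvd_one.1 ((Nat.dvd_add_iff_right h1).2 h2))

theorem coprime_p_e : Nat.Coprime p e := by
  rw [S.hp.coprime_iff_not_dvd]
  intro h
  have h1 := S.p_dvd_q
  have h2 : p ∣ 2 * e := h.mul_left 2
  rcases S.hcase with ⟨hq, he⟩ | ⟨hq, he⟩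
  · rw [show 2 * e = q + 1 by omega] at h2
    exact S.hp.ne_one (Nat.dvd_one.1 ((Nat.dvd_add_iff_right h1).2 h2))
  · rw [show q = 2 * e + 1 by omega] at h1
    exact S.hp.ne_one (Nat.dvd_one.1 ((Nat.dvd_add_iff_right h2).2 h1))

theorem coprime_q_k : Nat.Coprime q k := S.hq ▸ S.coprime_p_k.pow_left f

theorem coprime_q_e : Nat.Coprime q e := S.hq ▸ S.coprime_p_e.pow_left f

theorem two_coprime_k : Nat.Coprime 2 k := Nat.coprime_two_left.2 S.hk

theorem coprime_p_two : Nat.Coprime p 2 := (Nat.coprime_primes S.hp Nat.prime_two).2 S.hp2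

/-- No element order is divisible by two of the three pairwise coprime numbers. -/
theorem not_mixed {g : G} {r s : ℕ} (hr : r ≠ 1) (hs : s ≠ 1) (hrg : r ∣ orderOf g)
    (hsg : s ∣ orderOf g) : ¬ ((r ∣ p ∧ s ∣ k) ∨ (r ∣ p ∧ s ∣ 2 * e) ∨ (r ∣ k ∧ s ∣ 2 * e)) := by
  have key : ∀ {a b c : ℕ}, a ≠ 1 → a ∣ b → a ∣ c → Nat.Coprime b c → False := fun ha h1 h2 h3 =>
    ha (Nat.eq_one_of_dvd_coprimes h3 h1 h2)
  have hpe : Nat.Coprime p (2 * e) := S.coprime_p_two.mul_right S.coprime_p_e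
  have hke : Nat.Coprime k (2 * e) := S.two_coprime_k.symm.mul_right S.k_coprime_e
  rcases S.hord g with h | h | h
  · rintro (⟨-, h2⟩ | ⟨-, h2⟩ | ⟨h1, -⟩)
    · exact key hs (hsg.trans h) h2 S.coprime_p_k
    · exact key hs (hsg.trans h) h2 hpe
    · exact key hr (hrg.trans h) h1 S.coprime_p_k
  · rintro (⟨h1, -⟩ | ⟨h1, -⟩ | ⟨-, h2⟩)
    · exact key hr h1 (hrg.trans h) S.coprime_p_k
    · exact key hr h1 (hrg.trans h) S.coprime_p_k
    · exact key hs (hsg.trans h) h2 hke
  · rintro (⟨h1, -⟩ | ⟨h1, -⟩ | ⟨h1, -⟩)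
    · exact key hr h1 ((hrg.trans h).mul_left 2) hpe
    · exact key hr h1 ((hrg.trans h).mul_left 2) hpe
    · exact key hr h1 ((hrg.trans h).mul_left 2) hke

/-- The three kinds of non-trivial elements. -/
theorem kind {g : G} (hg : g ≠ 1) :
    orderOf g = p ∨ orderOf g ∣ k ∨ orderOf g ∣ e := by
  rcases S.hord g with h | h | h
  · rcases (Nat.dvd_prime S.hp).1 h with h' | h'
    · exact absurd (orderOf_eq_one_iff.1 h') hg
    · exact Or.inl h'
  · exact Or.inr (Or.inl h)
  · exact Or.inr (Or.inr h)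

theorem prime_dvd_card {r : ℕ} (hr : r.Prime) (h : r ∣ Nat.card G) :
    r ∣ p ∨ r ∣ k ∨ r ∣ 2 * e := by
  rw [S.card] at h
  rcases (Nat.Prime.dvd_mul hr).1 h with h | h
  · rcases (Nat.Prime.dvd_mul hr).1 h with h | h
    · exact Or.inl (hr.dvd_of_dvd_pow (S.hq ▸ h))
    · exact Or.inr (Or.inl h)
  · exact Or.inr (Or.inr h)

/-- If no element of the subgroup commutes in a mixed way, its order divides the corresponding part. -/
theorem card_dvd_of_primes {H : Subgroup G} {m c : ℕ} (hm : m * c = Nat.card G)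
    (hH : ∀ r : ℕ, r.Prime → r ∣ Nat.card H → r ∣ c → False) : Nat.card H ∣ m := by
  refine Nat.Coprime.dvd_of_dvd_mul_right ?_ (hm ▸ H.card_subgroup_dvd_card)
  exact Nat.coprime_of_dvd fun r hr h1 h2 => hH r hr h1 h2

theorem orderOf_mul_dvd {x y : G} (hc : Commute x y) {r s : ℕ} (hr : r ∣ orderOf x)
    (hs : orderOf y = s) (hrs : Nat.Coprime (orderOf x) s) :
    r ∣ orderOf (x * y) ∧ s ∣ orderOf (x * y) := by
  rw [hc.orderOf_mul_eq_mul_orderOf_of_coprime (hs ▸ hrs), hs]
  exact ⟨hr.mul_right _, dvd_mul_left _ _⟩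

/-- The centralizer of a non-trivial element of order dividing `k`. -/
theorem card_centralizer_k {a : G} (ha : a ≠ 1) (hak : orderOf a ∣ k) :
    Nat.card (Subgroup.centralizer ({a} : Set G)) ∣ k := by
  refine S.card_dvd_of_primes (c := q * (2 * e)) (by rw [S.card]; ring) fun r hr h1 h2 => ?_
  haveI : Fact r.Prime := ⟨hr⟩
  obtain ⟨c, hc⟩ := exists_prime_orderOf_dvd_card' r h1
  rw [← Subgroup.orderOf_coe] at hc
  have hcop : Nat.Coprime (orderOf a) r := Nat.Coprime.coprime_dvd_left hak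
    (Nat.Coprime.coprime_dvd_right h2 (S.coprime_q_k.symm.mul_right
      (S.two_coprime_k.symm.mul_right S.k_coprime_e)))
  obtain ⟨h3, h4⟩ := S.orderOf_mul_dvd (y := (c : G)) (Subgroup.mem_centralizer_singleton_iff.1 c.2).symm
    (r := orderOf a) dvd_rfl hc hcop
  have ha1 : orderOf a ≠ 1 := fun h => ha (orderOf_eq_one_iff.1 h)
  rcases (Nat.Prime.dvd_mul hr).1 h2 with h | h
  · exact S.not_mixed hr.ne_one ha1 h4 h3 (Or.inl ⟨hr.dvd_of_dvd_pow (S.hq ▸ h), hak⟩)
  · exact S.not_mixed ha1 hr.ne_one h3 h4 (Or.inr (Or.inr ⟨hak, h⟩))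

/-- The centralizer of a non-trivial element of order dividing `e`. -/
theorem card_centralizer_e {a : G} (ha : a ≠ 1) (hae : orderOf a ∣ e) :
    Nat.card (Subgroup.centralizer ({a} : Set G)) ∣ 2 * e := by
  refine S.card_dvd_of_primes (c := q * k) (by rw [S.card]; ring) fun r hr h1 h2 => ?_
  haveI : Fact r.Prime := ⟨hr⟩
  obtain ⟨c, hc⟩ := exists_prime_orderOf_dvd_card' r h1
  rw [← Subgroup.orderOf_coe] at hc
  have hcop : Nat.Coprime (orderOf a) r := Nat.Coprime.coprime_dvd_left hae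
    (Nat.Coprime.coprime_dvd_right h2 (S.coprime_q_e.symm.mul_right S.k_coprime_e.symm))
  obtain ⟨h3, h4⟩ := S.orderOf_mul_dvd (y := (c : G)) (Subgroup.mem_centralizer_singleton_iff.1 c.2).symm
    (r := orderOf a) dvd_rfl hc hcop
  have ha1 : orderOf a ≠ 1 := fun h => ha (orderOf_eq_one_iff.1 h)
  rcases (Nat.Prime.dvd_mul hr).1 h2 with h | h
  · exact S.not_mixed hr.ne_one ha1 h4 h3
      (Or.inr (Or.inl ⟨hr.dvd_of_dvd_pow (S.hq ▸ h), hae.mul_left 2⟩))
  · exact S.not_mixed hr.ne_one ha1 h4 h3 (Or.inr (Or.inr ⟨h, hae.mul_left 2⟩))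

/-- The centralizer of an element of order `p`. -/
theorem card_centralizer_p {a : G} (hap : orderOf a = p) :
    Nat.card (Subgroup.centralizer ({a} : Set G)) ∣ q := by
  refine S.card_dvd_of_primes (c := k * (2 * e)) (by rw [S.card]; ring) fun r hr h1 h2 => ?_
  haveI : Fact r.Prime := ⟨hr⟩
  obtain ⟨c, hc⟩ := exists_prime_orderOf_dvd_card' r h1
  rw [← Subgroup.orderOf_coe] at hc
  have hcop : Nat.Coprime (orderOf a) r := hap.symm ▸
    (Nat.Coprime.coprime_dvd_right h2 (S.coprime_p_k.mul_right (S.coprime_p_two.mul_right S.coprime_p_e)))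
  obtain ⟨h3, h4⟩ := S.orderOf_mul_dvd (y := (c : G)) (Subgroup.mem_centralizer_singleton_iff.1 c.2).symm
    (r := p) (dvd_of_eq hap.symm) hc hcop
  rcases (Nat.Prime.dvd_mul hr).1 h2 with h | h
  · exact S.not_mixed S.hp.ne_one hr.ne_one h3 h4 (Or.inl ⟨dvd_rfl, h⟩)
  · exact S.not_mixed S.hp.ne_one hr.ne_one h3 h4 (Or.inr (Or.inl ⟨dvd_rfl, h⟩))

end Spec

/-- The torus `A` of order `k` with an inverting involution `u` in its normalizer. -/
structure Torus (G : Type*) [Group G] (k : ℕ) (A : Subgroup G) (u : G) : Prop where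
  card : Nat.card A = k
  comm : ∀ a ∈ A, ∀ b ∈ A, a * b = b * a
  cent : ∀ a ∈ A, a ≠ 1 → Subgroup.centralizer ({a} : Set G) = A
  u2 : orderOf u = 2
  notMem : u ∉ A
  inv : ∀ a ∈ A, u * a * u⁻¹ = a⁻¹
  norm : ∀ g a : G, a ∈ A → a ≠ 1 → g * a * g⁻¹ ∈ A → g ∈ A ∨ u * g ∈ A
  inA : ∀ g : G, g ≠ 1 → orderOf g ∣ k → ∃ x : G, x⁻¹ * g * x ∈ A

theorem Spec.exists_torus (S : Spec G p f q k e) : ∃ A u, Torus G k A u := by
  classical
  obtain ⟨x, hx⟩ := S.exk
  set A := Subgroup.zpowers x with hA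
  have hAc : Nat.card A = k := (Nat.card_zpowers x).trans hx
  have hcomm : ∀ a ∈ A, ∀ b ∈ A, a * b = b * a := fun a ha b hb => by
    obtain ⟨i, rfl⟩ := Subgroup.mem_zpowers_iff.1 ha
    obtain ⟨j, rfl⟩ := Subgroup.mem_zpowers_iff.1 hb
    exact (Commute.refl x).zpow_zpow i j
  have hordA : ∀ a ∈ A, orderOf a ∣ k := fun a ha => hAc ▸ Subgroup.orderOf_dvd_natCard A ha
  have hcent : ∀ a ∈ A, a ≠ 1 → Subgroup.centralizer ({a} : Set G) = A := fun a ha h1 => by
    refine (Subgroup.eq_of_le_of_card_ge (fun b hb =>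
      Subgroup.mem_centralizer_singleton_iff.2 (hcomm b hb a ha)) ?_).symm
    rw [hAc]
    exact Nat.le_of_dvd (by linarith [S.hk3]) (S.card_centralizer_k h1 (hordA a ha))
  -- conjugating a non-trivial element of `A` into `A` normalizes `A`
  have hnormA : ∀ g a : G, a ∈ A → a ≠ 1 → g * a * g⁻¹ ∈ A → ∀ b ∈ A, g * b * g⁻¹ ∈ A := by
    intro g a ha h1 h2 b hb
    rw [← hcent _ h2 (fun h => h1 (conj_eq_one_iff.1 h)), Subgroup.mem_centralizer_singleton_iff]
    have := hcomm b hb a ha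
    calc g * b * g⁻¹ * (g * a * g⁻¹) = g * (b * a) * g⁻¹ := by group
      _ = g * (a * b) * g⁻¹ := by rw [this]
      _ = g * a * g⁻¹ * (g * b * g⁻¹) := by group
  set N := Subgroup.normalizer (A : Set G) with hN
  have hNmem : ∀ g : G, (∀ b ∈ A, g * b * g⁻¹ ∈ A) → g ∈ N := fun g hg => by
    refine Cfsg.Agent.Solv.mem_normalizer_of_conj_smul ?_
    rw [Cfsg.Agent.Solv.conj_smul_eq_map]
    refine Subgroup.eq_of_le_of_card_ge ?_ ?_
    · rintro _ ⟨b, hb, rfl⟩; exact hg b hb
    · exact (Nat.card_congr (Subgroup.equivMapOfInjective A _ (MulEquiv.injective _)).toEquiv).le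
  -- a conjugate of `A` normalized by a non-trivial element of `A` is `A`
  have hsemi : ∀ g a : G, a ∈ A → a ≠ 1 →
      g⁻¹ * a * g ∈ N → g ∈ N := by
    intro g a ha h1 h2
    set b := g⁻¹ * a * g with hb
    have hb1 : b ≠ 1 := fun h => h1 (by
      have : a = g * b * g⁻¹ := by rw [hb]; group
      rw [this, h]; group)
    obtain ⟨r, hr, hrd⟩ := Nat.exists_prime_and_dvd (fun h => hb1 (orderOf_eq_one_iff.1 h))
    haveI : Fact r.Prime := ⟨hr⟩
    obtain ⟨d, hd⟩ := hrd
    have hd0 : d ≠ 0 := by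
      rintro rfl
      exact (orderOf_pos b).ne' (by simpa using hd)
    have hbr : orderOf (b ^ d) = r := by
      rw [orderOf_pow' b hd0, Nat.gcd_eq_right ⟨r, by rw [hd]; ring⟩, hd,
        Nat.mul_div_cancel _ (Nat.pos_of_ne_zero hd0)]
    have hbord : orderOf b ∣ k := by
      have : b = MulAut.conj g⁻¹ a := by simp [hb]
      rw [this, MulEquiv.orderOf_eq]; exact hordA a ha
    have hrk : r ∣ k := (Dvd.intro d hd.symm).trans hbord
    have hsup : Subgroup.zpowers (b ^ d) ≤ N := by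
      rw [Subgroup.zpowers_le]; exact N.pow_mem h2 d
    have hbd : b ^ d ∈ A := by
      by_contra hn
      have h3 : Subgroup.zpowers (b ^ d) ⊓ A = ⊥ := by
        have hdvd := Subgroup.card_dvd_of_le (inf_le_left : Subgroup.zpowers (b ^ d) ⊓ A ≤ _)
        rw [Nat.card_zpowers, hbr] at hdvd
        rcases (Nat.dvd_prime hr).1 hdvd with h | h
        · exact Subgroup.eq_bot_of_card_eq _ h
        · exfalso
          refine hn ?_
          have : Subgroup.zpowers (b ^ d) ⊓ A = Subgroup.zpowers (b ^ d) :=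
            Subgroup.eq_of_le_of_card_ge inf_le_left (by rw [h, Nat.card_zpowers, hbr])
          exact (this.ge (Subgroup.mem_zpowers _)).2
      set Z := Subgroup.zpowers (b ^ d)
      have h4 : (Z : Set G) * (A : Set G) = ((Z ⊔ A : Subgroup G) : Set G) :=
        (Subgroup.coe_mul_of_left_le_normalizer_right Z A hsup).symm
      let φ : Z × A → ↥(Z ⊔ A) := fun w => ⟨(w.1 : G) * w.2,
        mul_mem (Subgroup.mem_sup_left w.1.2) (Subgroup.mem_sup_right w.2.2)⟩
      have hφ : Function.Bijective φ := by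
        constructor
        · intro v w h
          exact (Subgroup.mul_injective_of_disjoint (disjoint_iff.2 h3)) (congrArg Subtype.val h)
        · rintro ⟨y, hy⟩
          rw [← SetLike.mem_coe, ← h4] at hy
          obtain ⟨z, hz, c, hc, rfl⟩ := hy
          exact ⟨(⟨z, hz⟩, ⟨c, hc⟩), rfl⟩
      have h5 := Nat.card_eq_of_bijective φ hφ
      rw [Nat.card_prod, Nat.card_zpowers, hbr, hAc] at h5
      have h6 : r * k ∣ Nat.card G := h5 ▸ Subgroup.card_subgroup_dvd_card _
      rw [S.card, show q * k * (2 * e) = q * (2 * e) * k by ring] at h6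
      have h7 : r ∣ q * (2 * e) := Nat.dvd_of_mul_dvd_mul_right (by linarith [S.hk3]) h6
      exact hr.ne_one (Nat.eq_one_of_dvd_coprimes
        (S.coprime_q_k.symm.mul_right (S.two_coprime_k.symm.mul_right S.k_coprime_e)) hrk h7)
    have hbd1 : b ^ d ≠ 1 := fun h => hr.ne_one (by rw [← hbr, h, orderOf_one])
    have h8 : g * b ^ d * g⁻¹ ∈ A := by
      rw [← conj_pow, show g * b * g⁻¹ = a by rw [hb]; group]
      exact A.pow_mem ha d
    exact hNmem g (hnormA g _ hbd hbd1 h8)
  -- the index of the normalizer is one mod `k`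
  have hAN : A ≤ N := Subgroup.le_normalizer
  have hmod : N.index % k = 1 % k := by
    have hfix : ∀ (a : A) (z : G ⧸ N), (a : G) ≠ 1 → a • z = z → z = ((1 : G) : G ⧸ N) := by
      intro a z ha hz
      induction z using QuotientGroup.induction_on with | _ g =>
      change (((a : G) * g : G) : G ⧸ N) = _ at hz
      rw [eq_comm, QuotientGroup.eq, ← mul_assoc] at hz
      rw [QuotientGroup.eq, mul_one, inv_mem_iff]
      exact hsemi g a a.2 ha hz
    haveI := Fintype.ofFinite (G ⧸ N)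
    haveI := Fintype.ofFinite A
    rw [Subgroup.index_eq_card, Nat.card_eq_fintype_card]
    have hb := MulAction.sum_card_fixedBy_eq_card_orbits_mul_card_group A (G ⧸ N)
    rw [← Finset.add_sum_erase _ _ (Finset.mem_univ (1 : A))] at hb
    have h1 : ∀ a ∈ (Finset.univ : Finset A).erase 1,
        Fintype.card (MulAction.fixedBy (G ⧸ N) a) = 1 := by
      intro a ha
      have ha1 : (a : G) ≠ 1 := fun h => (Finset.mem_erase.1 ha).1 (Subtype.ext h)
      rw [Fintype.card_eq_one_iff]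
      refine ⟨⟨((1 : G) : G ⧸ N), ?_⟩, fun z => Subtype.ext (hfix a z.1 ha1 z.2)⟩
      change (((a : G) * 1 : G) : G ⧸ N) = _
      rw [QuotientGroup.eq, mul_one, mul_one, inv_mem_iff]
      exact hAN a.2
    have hAc' : Fintype.card A = k := Nat.card_eq_fintype_card.symm.trans hAc
    rw [Finset.sum_congr rfl h1, Finset.sum_const, Finset.card_erase_of_mem (Finset.mem_univ _),
      Finset.card_univ, hAc', smul_eq_mul, mul_one] at hb
    have h2 : Fintype.card (MulAction.fixedBy (G ⧸ N) (1 : A)) = Fintype.card (G ⧸ N) :=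
      Fintype.card_congr (Equiv.subtypeUnivEquiv fun z => one_smul A z)
    rw [h2] at hb
    set t := Fintype.card (G ⧸ N)
    set o := Fintype.card (Quotient (MulAction.orbitRel A (G ⧸ N)))
    have hk := S.hk3
    have h3 : (t + (k - 1)) % k = 0 := by rw [hb]; exact Nat.mul_mod_left o k
    have h4 : (t + (k - 1) + 1) % k = 1 % k := by
      rw [Nat.add_mod, h3, zero_add, Nat.mod_mod]
    rw [show t + (k - 1) + 1 = t + k by omega, Nat.add_mod_right] at h4
    exact h4
  -- `N` acts on the generators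
  have hx1 : x ≠ 1 := fun h => by rw [h, orderOf_one] at hx; linarith [S.hk3]
  have hxA : x ∈ A := Subgroup.mem_zpowers x
  set i := A.relIndex N with hi
  have hcardN : k * i = Nat.card N := by
    rw [hi, Subgroup.relIndex, ← Nat.card_congr (Subgroup.subgroupOfEquivOfLe hAN).toEquiv |>.trans hAc,
      Subgroup.card_mul_index]
  have hile : i ≤ k - 1 := by
    haveI := Fintype.ofFinite A
    have : i ≤ Nat.card {a : A // a ≠ 1} := by
      rw [hi, Subgroup.relIndex, Subgroup.index_eq_card]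
      refine Nat.card_le_card_of_injective
        (Quotient.lift (fun n : N => (⟨⟨(n : G) * x * (n : G)⁻¹,
          (Subgroup.mem_normalizer_iff.1 n.2 x).1 hxA⟩,
            fun h => hx1 (conj_eq_one_iff.1 (congrArg Subtype.val h))⟩ : {a : A // a ≠ 1})) ?_) ?_
      · intro m n h
        replace h : QuotientGroup.leftRel (A.subgroupOf N) m n := h
        rw [QuotientGroup.leftRel_apply, Subgroup.mem_subgroupOf, Subgroup.coe_mul,
          Subgroup.coe_inv] at h
        refine Subtype.ext (Subtype.ext ?_)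
        have := hcomm _ h x hxA
        change (m : G) * x * (m : G)⁻¹ = (n : G) * x * (n : G)⁻¹
        calc (m : G) * x * (m : G)⁻¹
            = (m : G) * (x * ((m : G)⁻¹ * n)) * (n : G)⁻¹ := by group
          _ = (m : G) * ((m : G)⁻¹ * n * x) * (n : G)⁻¹ := by rw [← this]
          _ = (n : G) * x * (n : G)⁻¹ := by group
      · intro y z
        induction y using QuotientGroup.induction_on with | _ m =>
        induction z using QuotientGroup.induction_on with | _ n =>
        intro h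
        have h' : (m : G) * x * (m : G)⁻¹ = (n : G) * x * (n : G)⁻¹ :=
          congrArg (fun a : {a : A // a ≠ 1} => ((a : A) : G)) h
        rw [QuotientGroup.eq, Subgroup.mem_subgroupOf, ← hcent x hxA hx1,
          Subgroup.mem_centralizer_singleton_iff, Subgroup.coe_mul, Subgroup.coe_inv]
        calc (m : G)⁻¹ * n * x = (m : G)⁻¹ * ((n : G) * x * (n : G)⁻¹) * n := by group
          _ = x * ((m : G)⁻¹ * n) := by rw [← h']; group
    rw [Nat.card_eq_fintype_card, Fintype.card_subtype_compl, Fintype.card_subtype_eq,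
      ← Nat.card_eq_fintype_card, hAc] at this
    exact this
  have hi0 : 0 < i := Nat.pos_of_ne_zero (by rw [hi, Subgroup.relIndex]; exact Subgroup.index_ne_zero_of_finite)
  have hidx : N.index * i = 2 * q * e := by
    have h := N.card_mul_index
    rw [← hcardN, S.card] at h
    have := S.hk3
    nlinarith
  have hi2 : i = 2 := by
    have hmod2 : i % k = 2 := by
      have h1 : (N.index * i) % k = i % k := by
        rw [Nat.mul_mod, hmod, ← Nat.mul_mod, one_mul]
      rw [hidx] at h1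
      rw [← h1]
      have := S.hk3
      rcases S.hcase with ⟨h2, h3⟩ | ⟨h2, h3⟩
      · rw [h2, h3, show 2 * (2 * k + 1) * (k + 1) = 2 + (4 * k + 6) * k by ring,
          Nat.add_mul_mod_self_right, Nat.mod_eq_of_lt (by omega)]
      · obtain ⟨d, rfl⟩ := Nat.exists_eq_add_of_le (show 1 ≤ e by linarith [S.e2])
        have hq : q = 2 * k - 1 := by omega
        subst h3
        rw [hq, show 2 * (1 + d + 1) - 1 = 2 * d + 3 by omega,
          show 2 * (2 * d + 3) * (1 + d) = 2 + (4 * d + 2) * (1 + d + 1) by ring,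
          Nat.add_mul_mod_self_right, Nat.mod_eq_of_lt (by omega)]
    rwa [Nat.mod_eq_of_lt (by omega)] at hmod2
  rw [hi2] at hcardN
  haveI : Fact (Nat.Prime 2) := ⟨Nat.prime_two⟩
  haveI := Fintype.ofFinite G
  obtain ⟨u, hu⟩ := exists_prime_orderOf_dvd_card' (G := N) 2 (hcardN ▸ dvd_mul_left 2 k)
  rw [← Subgroup.orderOf_coe] at hu
  have huA : (u : G) ∉ A := fun h => by
    have := hordA _ h
    rw [hu] at this
    exact absurd (Nat.eq_one_of_dvd_coprimes S.two_coprime_k dvd_rfl this) (by norm_num)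
  have huu : (u : G) * u = 1 := by rw [← sq, ← hu, pow_orderOf_eq_one]
  refine ⟨A, u, hAc, hcomm, hcent, hu, huA, ?_, ?_, ?_⟩
  · refine Cfsg.Agent.Char.inverts_of_fpf huu u.2 fun r hr hc => ?_
    by_contra hr1
    exact huA ((hcent r hr hr1).le (Subgroup.mem_centralizer_singleton_iff.2 hc))
  · intro g a ha h1 h2
    have hg : g ∈ N := hNmem g (hnormA g a ha h1 h2)
    have h3 : (A.subgroupOf N).index = 2 := hi2
    rcases Subgroup.mul_mem_iff_of_index_two h3 (a := u) (b := ⟨g, hg⟩) with h4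
    by_cases hgA : g ∈ A
    · exact Or.inl hgA
    · refine Or.inr ?_
      have := h4.2 ⟨fun h => absurd (Subgroup.mem_subgroupOf.1 h) huA,
        fun h => absurd (Subgroup.mem_subgroupOf.1 h) hgA⟩
      exact Subgroup.mem_subgroupOf.1 this
  · intro g hg1 hgk
    obtain ⟨r, hr, hrd⟩ := Nat.exists_prime_and_dvd (fun h => hg1 (orderOf_eq_one_iff.1 h))
    haveI : Fact r.Prime := ⟨hr⟩
    obtain ⟨d, hd⟩ := hrd
    have hd0 : d ≠ 0 := by
      rintro rfl
      exact (orderOf_pos g).ne' (by simpa using hd)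
    have hgr : orderOf (g ^ d) = r := by
      rw [orderOf_pow' g hd0, Nat.gcd_eq_right ⟨r, by rw [hd]; ring⟩, hd,
        Nat.mul_div_cancel _ (Nat.pos_of_ne_zero hd0)]
    have hrk : r ∣ k := (Dvd.intro d hd.symm).trans hgk
    have hndvd : ¬ r ∣ A.index := by
      intro h
      have h1 := A.card_mul_index
      rw [hAc, S.card] at h1
      have h2 : A.index = q * (2 * e) := by
        have := S.hk3
        nlinarith
      exact hr.ne_one (Nat.eq_one_of_dvd_coprimes
        (S.coprime_q_k.symm.mul_right (S.two_coprime_k.symm.mul_right S.k_coprime_e)) hrk (h2 ▸ h))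
    have hP : IsPGroup r (Subgroup.zpowers (g ^ d)) :=
      IsPGroup.of_card (n := 1) (by rw [Nat.card_zpowers, hgr, pow_one])
    obtain ⟨z, hz⟩ := hP.nonempty_fixed_point_of_prime_not_dvd_card (G ⧸ A)
      (by rwa [← Subgroup.index_eq_card])
    obtain ⟨y, rfl⟩ := QuotientGroup.mk_surjective z
    have h1 := hz ⟨g ^ d, Subgroup.mem_zpowers _⟩
    change (((g ^ d) * y : G) : G ⧸ A) = _ at h1
    rw [eq_comm, QuotientGroup.eq, ← mul_assoc] at h1
    refine ⟨y, ?_⟩
    rw [← hcent _ h1 (fun h => hr.ne_one (by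
      have : g ^ d = y * (y⁻¹ * g ^ d * y) * y⁻¹ := by group
      rw [← hgr, this, h]; simp)), Subgroup.mem_centralizer_singleton_iff]
    have hc : g * g ^ d = g ^ d * g := (Commute.refl g).pow_right d
    calc y⁻¹ * g * y * (y⁻¹ * g ^ d * y) = y⁻¹ * (g * g ^ d) * y := by group
      _ = y⁻¹ * (g ^ d * g) * y := by rw [hc]
      _ = _ := by group

end Cfsg.Agent.Lead.PSLSpectrum
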