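import Cfsg.Agent.Lib.Lead.PSLSpectrum.Chars
import Cfsg.Agent.Lib.Small.StructureConstantTwo

/-!
# The spectrum of `PSL₂(q)`, `q` odd: values of the exceptional characters and structure constants
-/

set_option autoImplicit false
set_option linter.unusedSectionVars false
set_option linter.style.haveILetI false

namespace Cfsg.Agent.Lead.PSLSpectrum

open Cfsg Cfsg.Agent.Char
open Cfsg.Agent.Char.BSW (diffFun phi mult coef oneC linC lin_orth)
open scoped ComplexConjugate Classical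

variable {G : Type*} [Group G] [Fintype G] {k : ℕ} {A : Subgroup G} {u : G}
variable {ψ : IrrCharacter G} {δ : ℤ} {η : (↥A →* ℂˣ) → IrrCharacter G} {ε : ℤ}

/-- The signed degree of `ψ`. -/
noncomputable def sdeg (ψ : IrrCharacter G) (δ : ℤ) : ℤ := δ * deg (ψ : G → ℂ)

/-- Non-trivial elements lying in a conjugate of `A`. -/
def InA (A : Subgroup G) (g : G) : Prop := g ≠ 1 ∧ ∃ x : G, x⁻¹ * g * x ∈ A

namespace Star

variable (H : Star A ψ δ η ε)
include H

theorem sum_coef {l : ↥A →* ℂˣ} (hl : l ≠ 1) {R : Type*} [CommRing R] (F : IrrCharacter G → R) :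
    ∑ χ : IrrCharacter G, (coef l χ : R) * F χ = F oneC + (δ : R) * F ψ + (ε : R) * F (η l) := by
  simp only [H.spec l hl, Int.cast_add, add_mul, Finset.sum_add_distrib, Int.cast_ite, Int.cast_one,
    Int.cast_zero, ite_mul, zero_mul, Finset.sum_ite_eq', Finset.mem_univ, if_true, one_mul]

theorem δsq : (δ : ℂ) * δ = 1 := by rcases H.hδ with h | h <;> simp [h]

theorem εsq : (ε : ℂ) * ε = 1 := by rcases H.hε with h | h <;> simp [h]

theorem off {l : ↥A →* ℂˣ} (hl : l ≠ 1) {g : G} (hg : ¬ InA A g) :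
    1 + (δ : ℂ) * (ψ : G → ℂ) g + (ε : ℂ) * (η l : G → ℂ) g = 0 := by
  have h0 : phi l g = 0 := BSW.phi_off l fun a ha => by
    by_contra h1
    exact hg ⟨fun e => h1 (by rw [e]; group), a, ha⟩
  rw [BSW.phi_expand l] at h0
  simp only [Finset.sum_apply, Pi.smul_apply, smul_eq_mul] at h0
  rw [H.sum_coef hl (fun χ : IrrCharacter G => (χ : G → ℂ) g)] at h0
  simpa [oneC] using h0

theorem deg_rel {l : ↥A →* ℂˣ} (hl : l ≠ 1) :
    ε * (deg (η l : G → ℂ) : ℤ) = -(sdeg ψ δ + 1) := by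
  have h : ∑ χ : IrrCharacter G, (coef l χ : ℤ) * (deg (χ : G → ℂ) : ℤ) = 0 := by
    have h1 : phi l (1 : G) = 0 := BSW.phi_one l
    rw [BSW.phi_expand l] at h1
    simp only [Finset.sum_apply, Pi.smul_apply, smul_eq_mul,
      fun χ : IrrCharacter G => char_one_eq_deg (irr_isCharacter χ.2)] at h1
    exact_mod_cast h1
  have h2 := H.sum_coef hl (fun χ : IrrCharacter G => (deg (χ : G → ℂ) : ℤ))
  simp only [Int.cast_id, deg_one', Nat.cast_one] at h2
  rw [h] at h2
  rw [sdeg]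
  linarith

theorem sdeg_ne : sdeg ψ δ ≠ 0 := by
  have := deg_pos ψ.2
  rcases H.hδ with h | h <;> rw [sdeg, h] <;> omega

theorem sdeg_succ_ne (T : Torus G k A u) (hk3 : 3 ≤ k) : sdeg ψ δ + 1 ≠ 0 := by
  obtain ⟨l, hl⟩ := T.exists_ne_one hk3
  have := deg_pos (η l).2
  have h := H.deg_rel hl
  rcases H.hε with e | e <;> rw [e] at h <;> omega

end Star

namespace Torus

variable (T : Torus G k A u) (hk : Odd k) (hk3 : 3 ≤ k) (H : Star A ψ δ η ε)
include T

theorem sum_ne_one (y : ↥A) (hy : y ≠ 1) :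
    ∑ l : ↥A →* ℂˣ, (if l = 1 then (0 : ℂ) else (l y : ℂ)) = -1 := by
  have h := T.dual_sum y
  rw [if_neg hy, ← Finset.add_sum_erase _ _ (Finset.mem_univ (1 : ↥A →* ℂˣ))] at h
  rw [← Finset.add_sum_erase _ _ (Finset.mem_univ (1 : ↥A →* ℂˣ)), if_pos rfl, zero_add,
    Finset.sum_congr rfl fun l hl => if_neg (Finset.mem_erase.1 hl).1]
  rw [MonoidHom.one_apply, Units.val_one] at h
  linear_combination h

include H

theorem psi_on {y : ↥A} (hy : y ≠ 1) : (ψ : G → ℂ) (y : G) = δ := by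
  rw [T.char_on ψ hy]
  have h : ∀ l : ↥A →* ℂˣ, (coef l ψ : ℂ) * (l y : ℂ) = (δ : ℂ) * if l = 1 then 0 else (l y : ℂ) := by
    intro l
    by_cases hl : l = 1
    · subst hl; simp [BSW.coef_one]
    · rw [if_neg hl, H.spec l hl, if_neg H.psi_ne, if_pos rfl, if_neg (Ne.symm (H.eta_psi l hl))]
      simp
  rw [Finset.sum_congr rfl fun l _ => h l, ← Finset.mul_sum, T.sum_ne_one y hy]
  ring

include hk in
theorem eta_inj {l l' : ↥A →* ℂˣ} (hl : l ≠ 1) (hl' : l' ≠ 1) (h : η l = η l') :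
    l' = l ∨ l' = l⁻¹ := by
  have hc : ∀ χ, coef l' χ = coef l χ := fun χ => by rw [H.spec l hl, H.spec l' hl', h]
  have h1 := T.coef_inner l l hl hl
  have h2 := T.coef_inner l' l hl' hl
  simp only [hc] at h2
  rw [h1, if_pos rfl, if_neg (T.hom_ne_inv hk hl)] at h2
  by_contra hn
  push Not at hn
  rw [if_neg hn.1, if_neg hn.2] at h2
  omega

include hk in
theorem eta_on {l : ↥A →* ℂˣ} (hl : l ≠ 1) {y : ↥A} (hy : y ≠ 1) :
    (η l : G → ℂ) (y : G) = -(ε : ℂ) * ((l y : ℂ) + (l y⁻¹ : ℂ)) := by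
  have hl' : l⁻¹ ≠ 1 := hom_inv_ne_one hl
  have hcl : ∀ m, coef m (η l) = if m = l ∨ m = l⁻¹ then ε else 0 := by
    intro m
    by_cases hm : m = 1
    · subst hm
      rw [BSW.coef_one, if_neg]
      rintro (e | e)
      · exact hl e.symm
      · exact hl' e.symm
    rw [H.spec m hm, if_neg (H.eta_ne l hl), if_neg (H.eta_psi l hl)]
    by_cases he : η l = η m
    · rw [if_pos he, if_pos (T.eta_inj hk H hl hm he)]; ring
    · rw [if_neg he, if_neg]
      · ring
      rintro (e | e)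
      · exact he (by rw [e])
      · refine he ?_
        -- `l` and `l⁻¹` have the same coefficients
        have h1 : ∑ χ, (coef l χ - coef m χ) * (coef l χ - coef m χ) = 0 := by
          simp only [sub_mul, mul_sub, Finset.sum_sub_distrib]
          rw [T.coef_inner l l hl hl, T.coef_inner m m hm hm, T.coef_inner l m hl hm,
            T.coef_inner m l hm hl, e, hom_inv_inv]
          simp [T.hom_ne_inv hk hl, (T.hom_ne_inv hk hl).symm]
        have h2 := (Finset.sum_eq_zero_iff_of_nonneg fun χ _ => mul_self_nonneg _).1 h1 (η l)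
          (Finset.mem_univ _)
        have h3 : coef l (η l) = coef m (η l) := sub_eq_zero.1 (mul_self_eq_zero.1 h2)
        rw [H.spec l hl, H.spec m hm, if_neg (H.eta_ne l hl), if_neg (H.eta_psi l hl),
          if_pos rfl] at h3
        by_contra hne
        rw [if_neg hne] at h3
        rcases H.hε with e' | e' <;> omega
  rw [T.char_on (η l) hy, Finset.sum_congr rfl fun m _ => by rw [hcl m]]
  have hne : l ≠ l⁻¹ := T.hom_ne_inv hk hl
  rw [← Finset.sum_subset (s₁ := {l, l⁻¹}) (Finset.subset_univ _) (fun m _ hm => by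
    simp only [Finset.mem_insert, Finset.mem_singleton] at hm
    rw [if_neg hm, Int.cast_zero, zero_mul]), Finset.sum_pair hne, if_pos (Or.inl rfl),
    if_pos (Or.inr rfl), MonoidHom.inv_apply, map_inv]
  ring

include hk3 in
theorem sdeg_mod : (k : ℤ) ∣ sdeg ψ δ - 1 := by
  have h1 := BSW.mult_spec ψ (1 : ↥A →* ℂˣ)
  rw [classInner, T.card, ← Finset.add_sum_erase _ _ (Finset.mem_univ (1 : ↥A))] at h1
  rw [Finset.sum_congr rfl fun y hy => by rw [T.psi_on H (Finset.mem_erase.1 hy).1]] at h1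
  simp only [OneMemClass.coe_one, MonoidHom.one_apply, Units.val_one, map_one, mul_one,
    Finset.sum_const, Finset.card_erase_of_mem (Finset.mem_univ (1 : ↥A)), Finset.card_univ,
    nsmul_eq_mul, char_one_eq_deg (irr_isCharacter ψ.2),
    show Fintype.card ↥A = k from Nat.card_eq_fintype_card.symm.trans T.card] at h1
  have hk0 : (k : ℂ) ≠ 0 := Nat.cast_ne_zero.2 (by omega)
  field_simp at h1
  rw [Nat.cast_sub (by omega : 1 ≤ k), Nat.cast_one] at h1
  have h2 : (deg (ψ : G → ℂ) : ℤ) + ((k : ℤ) - 1) * δ = k * mult ψ (1 : ↥A →* ℂˣ) := by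
    have h3 : (deg (ψ : G → ℂ) : ℂ) + ((k : ℂ) - 1) * δ = k * mult ψ (1 : ↥A →* ℂˣ) := by
      linear_combination h1
    exact_mod_cast h3
  refine ⟨δ * mult ψ (1 : ↥A →* ℂˣ) - 1, ?_⟩
  rw [sdeg]
  rcases H.hδ with e | e <;> rw [e] at h2 ⊢ <;> linarith

include hk3 in
/-- The structure constant at an element outside the conjugates of `A`. -/
theorem count_formula {z : G} (hz : ¬ InA A z) {y : ↥A} (hy : y ≠ 1) :
    (((Finset.univ : Finset (G × G)).filter fun w =>
        w.1 * z * w.1⁻¹ * (w.2 * z * w.2⁻¹) = (y : G)).card : ℂ) *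
      ((sdeg ψ δ : ℂ) * ((sdeg ψ δ : ℂ) + 1)) =
      (Nat.card G : ℂ) * ((sdeg ψ δ : ℂ) - (δ : ℂ) * (ψ : G → ℂ) z) ^ 2 := by
  set X : ℂ := (sdeg ψ δ : ℂ) with hX
  set a : ℂ := (δ : ℂ) * (ψ : G → ℂ) z with ha
  have hX' : X = (δ : ℂ) * (deg (ψ : G → ℂ) : ℂ) := by rw [hX, sdeg]; push_cast; rfl
  have hconj : ∀ χ : IrrCharacter G, conj ((χ : G → ℂ) (y : G)) =
      -∑ l : ↥A →* ℂˣ, (coef l χ : ℂ) * (l y⁻¹ : ℂ) := fun χ => by
    rw [← char_inv (irr_isCharacter χ.2), ← Subgroup.coe_inv, T.char_on χ (inv_ne_one.2 hy)]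
  have hterm : ∀ l : ↥A →* ℂˣ, (∑ χ : IrrCharacter G, (coef l χ : ℂ) *
      ((χ : G → ℂ) z * (χ : G → ℂ) z / (χ : G → ℂ) 1)) * (X * (X + 1)) =
      if l = 1 then 0 else (X - a) ^ 2 := by
    intro l
    by_cases hl : l = 1
    · subst hl; simp [BSW.coef_one]
    rw [if_neg hl, H.sum_coef hl (fun χ : IrrCharacter G =>
      (χ : G → ℂ) z * (χ : G → ℂ) z / (χ : G → ℂ) 1)]
    simp only [char_one_eq_deg (irr_isCharacter (Subtype.prop (_ : IrrCharacter G))), deg_one',
      Nat.cast_one, div_one]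
    have hone : ((oneC : IrrCharacter G) : G → ℂ) z = 1 := rfl
    rw [hone]
    have hp : (deg (ψ : G → ℂ) : ℂ) ≠ 0 := Nat.cast_ne_zero.2 (deg_pos ψ.2).ne'
    have he : (deg (η l : G → ℂ) : ℂ) ≠ 0 := Nat.cast_ne_zero.2 (deg_pos (η l).2).ne'
    have hX1 : X + 1 = -((ε : ℂ) * (deg (η l : G → ℂ) : ℂ)) := by
      have := H.deg_rel hl
      have h2 : ((ε * (deg (η l : G → ℂ) : ℤ) : ℤ) : ℂ) = ((-(sdeg ψ δ + 1) : ℤ) : ℂ) := by rw [this]
      push_cast at h2
      rw [hX]; linear_combination h2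
    have hoff := H.off hl hz
    have h1 : (δ : ℂ) * ((ψ : G → ℂ) z * (ψ : G → ℂ) z / (deg (ψ : G → ℂ) : ℂ)) * X = a * a := by
      rw [hX', ha]; field_simp
    have h2 : (ε : ℂ) * ((η l : G → ℂ) z * (η l : G → ℂ) z / (deg (η l : G → ℂ) : ℂ)) * (X + 1) =
        -((1 + a) * (1 + a)) := by
      rw [hX1, show (1 : ℂ) + a = -((ε : ℂ) * (η l : G → ℂ) z) by rw [ha]; linear_combination hoff]
      field_simp
    linear_combination (X + 1) * h1 + X * h2
  rw [Cfsg.Agent.Small.StructureConstantTwo.pairs_formula, mul_assoc, Finset.sum_mul]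
  congr 1
  rw [Finset.sum_congr rfl fun χ _ => by rw [hconj χ, neg_mul, neg_mul, Finset.sum_mul, Finset.sum_mul],
    Finset.sum_neg_distrib, Finset.sum_comm]
  rw [Finset.sum_congr rfl fun l _ => show (∑ χ : IrrCharacter G, (coef l χ : ℂ) * (l y⁻¹ : ℂ) *
      ((χ : G → ℂ) z * (χ : G → ℂ) z / (χ : G → ℂ) 1) * (X * (X + 1))) =
      (X - a) ^ 2 * (if l = 1 then 0 else (l y⁻¹ : ℂ)) by
    rw [show (X - a) ^ 2 * (if l = 1 then 0 else (l y⁻¹ : ℂ)) =
      (l y⁻¹ : ℂ) * (if l = 1 then 0 else (X - a) ^ 2) by split_ifs <;> ring, ← hterm l,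
      Finset.sum_mul, Finset.mul_sum]
    exact Finset.sum_congr rfl fun χ _ => by ring]
  rw [← Finset.mul_sum, T.sum_ne_one y⁻¹ (inv_ne_one.2 hy)]
  ring

omit H

include hk in
theorem coset_isConj {b : G} (hb : b ∈ A) : IsConj u (u * b) := by
  obtain ⟨j, hj⟩ := hk
  have h1 : b ^ (Nat.card A) = 1 :=
    congrArg Subtype.val (pow_card_eq_one' (x := (⟨b, hb⟩ : ↥A)))
  have h2 : b ^ (j + 1) * b ^ (j + 1) = b := by
    rw [← pow_add, show j + 1 + (j + 1) = Nat.card A + 1 by rw [T.card]; omega, pow_succ, h1, one_mul]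
  set c := b ^ (j + 1) with hc
  refine isConj_iff.2 ⟨c⁻¹, ?_⟩
  have h3 : u * c⁻¹ * u = c := by
    have h := T.inv _ (A.inv_mem (A.pow_mem hb (j + 1)))
    rwa [T.u_inv, inv_inv] at h
  calc c⁻¹ * u * c⁻¹⁻¹ = u * (u * c⁻¹ * u) * c := by
        rw [inv_inv]; simp [mul_assoc, ← mul_assoc u u, T.uu]
    _ = u * b := by rw [h3, mul_assoc, h2]

include hk in
/-- Two conjugates of the involution `z` with product in `A` come from the coset `uA`. -/
theorem pair_mem {z : G} (hz : orderOf z = 2) {y : ↥A} (hy : y ≠ 1) {g h : G}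
    (he : g * z * g⁻¹ * (h * z * h⁻¹) = (y : G)) : u * (g * z * g⁻¹) ∈ A := by
  set x := g * z * g⁻¹ with hx
  set w := h * z * h⁻¹ with hw
  have hzz : z * z = 1 := by rw [← sq, ← hz, pow_orderOf_eq_one]
  have hxx : x * x = 1 := by rw [hx]; simp [mul_assoc, ← mul_assoc z z, hzz]
  have hww : w * w = 1 := by rw [hw]; simp [mul_assoc, ← mul_assoc z z, hzz]
  have hinv : x * (y : G) * x⁻¹ = (y : G)⁻¹ := by
    rw [← he, inv_eq_of_mul_eq_one_right hxx, mul_inv_rev, inv_eq_of_mul_eq_one_right hxx,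
      inv_eq_of_mul_eq_one_right hww]
    simp [← mul_assoc, hxx]
  rcases T.norm x y y.2 (fun e => hy (Subtype.ext e)) (by rw [hinv]; exact A.inv_mem y.2) with h' | h'
  · exfalso
    have h2 : orderOf x ∣ Nat.card A := Subgroup.orderOf_dvd_natCard A h'
    rw [show x = MulAut.conj g z by simp [hx], MulEquiv.orderOf_eq, hz, T.card] at h2
    obtain ⟨j, hj⟩ := hk
    omega
  · exact h'

include hk in
theorem count_other {z : G} (hz : orderOf z = 2) (hzu : ¬ IsConj u z) {y : ↥A} (hy : y ≠ 1) :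
    ((Finset.univ : Finset (G × G)).filter fun w =>
      w.1 * z * w.1⁻¹ * (w.2 * z * w.2⁻¹) = (y : G)).card = 0 := by
  rw [Finset.card_eq_zero, Finset.filter_eq_empty_iff]
  rintro ⟨g, h⟩ - he
  have h1 := T.coset_isConj hk (T.pair_mem hk hz hy he)
  rw [← mul_assoc, T.uu, one_mul] at h1
  exact hzu (h1.trans (isConj_iff.2 ⟨g⁻¹, by group⟩))

include hk in
theorem count_self {y : ↥A} (hy : y ≠ 1) :
    ((Finset.univ : Finset (G × G)).filter fun w =>
      w.1 * u * w.1⁻¹ * (w.2 * u * w.2⁻¹) = (y : G)).card =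
      k * Nat.card (Subgroup.centralizer ({u} : Set G)) ^ 2 := by
  have hcent : ∀ x : G, IsConj u x →
      (Finset.univ.filter fun g : G => g * u * g⁻¹ = x).card = Nat.card (Subgroup.centralizer ({u} : Set G)) := by
    intro x hx
    obtain ⟨g₀, hg₀⟩ := isConj_iff.1 hx
    rw [Nat.card_eq_fintype_card, Fintype.card_subtype]
    refine (Finset.card_equiv (Equiv.mulLeft g₀) fun c => ?_).symm
    simp only [Finset.mem_filter, Finset.mem_univ, true_and, Equiv.coe_mulLeft,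
      Subgroup.mem_centralizer_singleton_iff, ← hg₀]
    constructor
    · intro h
      calc g₀ * c * u * (g₀ * c)⁻¹ = g₀ * (c * u) * c⁻¹ * g₀⁻¹ := by group
        _ = g₀ * (u * c) * c⁻¹ * g₀⁻¹ := by rw [h]
        _ = g₀ * u * g₀⁻¹ := by group
    · intro h
      calc c * u = g₀⁻¹ * (g₀ * c * u * (g₀ * c)⁻¹) * g₀ * c := by group
        _ = g₀⁻¹ * (g₀ * u * g₀⁻¹) * g₀ * c := by rw [h]
        _ = u * c := by group
  set D := (Finset.univ : Finset ↥A).image fun b : ↥A => u * (b : G) with hD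
  have hDc : D.card = k := by
    rw [hD, Finset.card_image_of_injective _ fun b c h => Subtype.ext (mul_left_cancel h),
      Finset.card_univ, ← Nat.card_eq_fintype_card, T.card]
  rw [Finset.card_eq_sum_card_fiberwise (f := fun w : G × G => w.1 * u * w.1⁻¹) (t := D) ?_, ← hDc,
    ← smul_eq_mul, ← Finset.sum_const]
  swap
  · rintro ⟨g, h⟩ hw
    have h1 := T.pair_mem hk T.u2 hy (Finset.mem_filter.1 hw).2
    refine Finset.mem_image.2 ⟨⟨_, h1⟩, Finset.mem_univ _, ?_⟩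
    change u * (u * (g * u * g⁻¹)) = g * u * g⁻¹
    rw [← mul_assoc, T.uu, one_mul]
  refine Finset.sum_congr rfl fun x hx => ?_
  obtain ⟨b, -, rfl⟩ := Finset.mem_image.1 hx
  have hbb : (u * (b : G))⁻¹ = u * (b : G) := by
    have h := T.inv _ (A.inv_mem b.2)
    rw [T.u_inv, inv_inv] at h
    rw [mul_inv_rev, T.u_inv]
    calc (b : G)⁻¹ * u = u * (u * (b : G)⁻¹ * u) := by simp [mul_assoc, ← mul_assoc u u, T.uu]
      _ = _ := by rw [h]
  rw [sq]
  rw [show ((Finset.univ : Finset (G × G)).filter fun w =>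
      w.1 * u * w.1⁻¹ * (w.2 * u * w.2⁻¹) = (y : G)).filter (fun w => w.1 * u * w.1⁻¹ = u * (b : G)) =
      (Finset.univ.filter fun g : G => g * u * g⁻¹ = u * (b : G)) ×ˢ
        (Finset.univ.filter fun g : G => g * u * g⁻¹ = u * ((b * y : ↥A) : G)) from ?_,
    Finset.card_product, hcent _ (T.coset_isConj hk b.2), hcent _ (T.coset_isConj hk (b * y).2)]
  ext ⟨g, h⟩
  simp only [Finset.mem_filter, Finset.mem_univ, true_and, Finset.mem_product, Subgroup.coe_mul]
  constructor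
  · rintro ⟨h1, h2⟩
    refine ⟨h2, ?_⟩
    rw [h2] at h1
    calc h * u * h⁻¹ = (u * (b : G))⁻¹ * (y : G) := by rw [← h1]; group
      _ = u * ((b : G) * y) := by rw [hbb, mul_assoc]
  · rintro ⟨h1, h2⟩
    refine ⟨?_, h1⟩
    rw [h1, h2]
    calc u * (b : G) * (u * ((b : G) * y)) = u * (b : G) * (u * (b : G)) * y := by group
      _ = (y : G) := by nth_rewrite 1 [← hbb]; rw [inv_mul_cancel, one_mul]

end Torus

end Cfsg.Agent.Lead.PSLSpectrum
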